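import Cfsg.Agent.PMinLie.SmallBase
import Mathlib.GroupTheory.SpecificGroups.Alternating.Simple

/-!
# The alternating group of degree six in characteristic two
-/

set_option autoImplicit false

namespace Cfsg.Lib.PMinLie.AltSix

open Equiv

universe v

/-- A transposition. -/
abbrev tA : Perm (Fin 6) := swap 4 5

/-- A triple transposition commuting with it. -/
abbrev tB : Perm (Fin 6) := swap 0 2 * swap 1 3 * swap 4 5

/-- The even permutations commuting with both. -/
def u8 : List (Perm (Fin 6)) := [1, swap 0 2 * swap 1 3, swap 0 1 * swap 2 3, swap 0 3 * swap 1 2,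
  swap 1 3 * swap 4 5, swap 0 2 * swap 4 5, swap 0 1 * swap 1 2 * swap 2 3 * swap 4 5,
  swap 2 3 * swap 1 2 * swap 0 1 * swap 4 5]

theorem u8_spec : ∀ u ∈ u8, Perm.sign u = 1 ∧ u * tA = tA * u ∧ u * tB = tB * u := by decide +kernel

theorem count : (Finset.univ.filter fun x : Perm (Fin 6) =>
    Perm.sign x = 1 ∧ x * tA = tA * x ∧ x * tB = tB * x).card = 8 := by decide +kernel

theorem outside : ∀ x : Perm (Fin 6), Perm.sign x = 1 → x * tA ≠ tA * x → x * tB ≠ tB * x →
    (∃ u ∈ u8, ∃ v ∈ u8, (x * u * x * v) ^ 5 = 1 ∧ x * u * x * v ≠ 1) ∧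
    (∃ u ∈ u8, ∃ v ∈ u8, (x * u * x * v) ^ 3 = 1 ∧ x * u * x * v ≠ 1) := by decide +kernel

theorem witness : (Perm.sign (swap (0 : Fin 6) 1 * swap 1 2) = 1 ∧
      swap (0 : Fin 6) 1 * swap 1 2 * tA = tA * (swap 0 1 * swap 1 2) ∧
      swap (0 : Fin 6) 1 * swap 1 2 * tB ≠ tB * (swap 0 1 * swap 1 2)) ∧
    (Perm.sign (swap (0 : Fin 6) 4 * swap 2 5) = 1 ∧
      swap (0 : Fin 6) 4 * swap 2 5 * tB = tB * (swap 0 4 * swap 2 5) ∧
      swap (0 : Fin 6) 4 * swap 2 5 * tA ≠ tA * (swap 0 4 * swap 2 5)) := by decide +kernel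

/-- The even permutations commuting with a permutation. -/
def cen (t : Perm (Fin 6)) : Subgroup ↥(alternatingGroup (Fin 6)) :=
  (Subgroup.centralizer ({t} : Set (Perm (Fin 6)))).subgroupOf (alternatingGroup (Fin 6))

theorem mem_cen {t : Perm (Fin 6)} {x : ↥(alternatingGroup (Fin 6))} : x ∈ cen t ↔ (x : Perm (Fin 6)) * t = t * x := by
  rw [cen, Subgroup.mem_subgroupOf, Subgroup.mem_centralizer_singleton_iff]

theorem card_alt : Nat.card ↥(alternatingGroup (Fin 6)) = 360 := by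
  rw [nat_card_alternatingGroup]; simp [Nat.factorial]

theorem card_inf : Nat.card ↥(cen tA ⊓ cen tB) = 8 := by
  refine Eq.trans ?_ count
  rw [← Nat.card_eq_finsetCard]
  refine Nat.card_congr
    { toFun := fun x => ⟨x.1.1, Finset.mem_filter.2 ⟨Finset.mem_univ _, Perm.mem_alternatingGroup.1 x.1.2,
        mem_cen.1 x.2.1, mem_cen.1 x.2.2⟩⟩
      invFun := fun x => ⟨⟨x.1, Perm.mem_alternatingGroup.2 (Finset.mem_filter.1 x.2).2.1⟩,
        mem_cen.2 (Finset.mem_filter.1 x.2).2.2.1, mem_cen.2 (Finset.mem_filter.1 x.2).2.2.2⟩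
      left_inv := fun x => rfl
      right_inv := fun x => rfl }

theorem cover (L : Subgroup ↥(alternatingGroup (Fin 6))) (hU : cen tA ⊓ cen tB ≤ L) (hne : L ≠ ⊤) : L ≤ cen tA ∨ L ≤ cen tB := by
  have key : ∀ x ∈ L, x ∈ cen tA ∨ x ∈ cen tB := by
    intro x hx
    by_contra hc
    push Not at hc
    obtain ⟨h5, h3⟩ := outside x.1 (Perm.mem_alternatingGroup.1 x.2) (fun e => hc.1 (mem_cen.2 e))
      (fun e => hc.2 (mem_cen.2 e))
    have hord : ∀ r : ℕ, r.Prime → (∃ u ∈ u8, ∃ v ∈ u8, (x.1 * u * x.1 * v) ^ r = 1 ∧ x.1 * u * x.1 * v ≠ 1) →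
        r ∣ Nat.card L := by
      rintro r hr ⟨u, hu, v, hv, h1, h2⟩
      have hmem : ∀ (w : Perm (Fin 6)) (hw : w ∈ u8),
          (⟨w, Perm.mem_alternatingGroup.2 (u8_spec w hw).1⟩ : ↥(alternatingGroup (Fin 6))) ∈ L := fun w hw =>
        hU ⟨mem_cen.2 (u8_spec w hw).2.1, mem_cen.2 (u8_spec w hw).2.2⟩
      have : Fact r.Prime := ⟨hr⟩
      set g : ↥(alternatingGroup (Fin 6)) := x * ⟨u, Perm.mem_alternatingGroup.2 (u8_spec u hu).1⟩ * x *
        ⟨v, Perm.mem_alternatingGroup.2 (u8_spec v hv).1⟩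
      have hg : orderOf g = r := orderOf_eq_prime (Subtype.ext (by simpa [g] using h1))
        fun e => h2 (by simpa [g] using congrArg Subtype.val e)
      rw [← hg]
      exact Subgroup.orderOf_dvd_natCard L (mul_mem (mul_mem (mul_mem hx (hmem u hu)) hx) (hmem v hv))
    have d8 : 8 ∣ Nat.card L := card_inf ▸ Subgroup.card_dvd_of_le hU
    have d : 120 ∣ Nat.card L := by
      have d15 : 15 ∣ Nat.card L :=
        Nat.Coprime.mul_dvd_of_dvd_of_dvd (by norm_num) (hord 3 Nat.prime_three h3) (hord 5 (by norm_num) h5)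
      exact Nat.Coprime.mul_dvd_of_dvd_of_dvd (show Nat.Coprime 8 15 by norm_num) d8 d15
    have : IsSimpleGroup ↥(alternatingGroup (Fin 6)) := alternatingGroup.isSimpleGroup (by simp)
    have hk : L.normalCore = ⊥ :=
      L.normalCore_normal.eq_bot_or_eq_top.resolve_right fun e => hne (top_unique (e ▸ L.normalCore_le))
    rw [Subgroup.normalCore_eq_ker] at hk
    have h6 := Subgroup.card_dvd_of_injective _ ((MonoidHom.ker_eq_bot_iff _).1 hk)
    rw [Nat.card_perm, ← Subgroup.index_eq_card, card_alt] at h6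
    have h7 := L.card_mul_index
    rw [card_alt] at h7
    have hi : L.index ≤ 3 := by
      by_contra hlt
      have : 120 * 4 ≤ Nat.card L * L.index :=
        Nat.mul_le_mul (Nat.le_of_dvd Nat.card_pos d) (by omega)
      omega
    have h8 := Nat.le_of_dvd (Nat.factorial_pos _) h6
    have h9 : L.index.factorial ≤ (3 : ℕ).factorial := Nat.factorial_le hi
    simp [Nat.factorial] at h9
    omega
  by_contra hc
  push Not at hc
  obtain ⟨a, ha, ha'⟩ := SetLike.not_le_iff_exists.1 hc.1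
  obtain ⟨b, hb, hb'⟩ := SetLike.not_le_iff_exists.1 hc.2
  have haB := (key a ha).resolve_left ha'
  have hbA := (key b hb).resolve_right hb'
  rcases key _ (mul_mem ha hb) with h | h
  · exact ha' (by simpa using mul_mem h (inv_mem hbA))
  · exact hb' (by simpa using mul_mem (inv_mem haB) h)

theorem goal {K : Type v} [Group K] [Finite K] [IsSimpleGroup K] (e : K ≃* ↥(alternatingGroup (Fin 6))) : Goal 2 K := by
  have : Fact (Nat.Prime 2) := ⟨Nat.prime_two⟩
  have hK : Nat.card K = 360 := by rw [Nat.card_congr e.toEquiv, card_alt]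
  have hne := fun U => normalizer_ne_top_of_simple (p := 2) (K := K) (by rw [hK]; norm_num) Nat.prime_three
    (by norm_num) (by rw [hK]; norm_num) U
  refine ⟨hne, fun UK A Lmax c => ?_⟩
  have hf : (Nat.card ↥(alternatingGroup (Fin 6))).factorization 2 = 3 := by
    rw [card_alt, show (360 : ℕ) = 2 ^ 3 * 45 by norm_num, Nat.factorization_mul (by norm_num) (by norm_num),
      Finsupp.add_apply, Nat.prime_two.factorization_pow, Finsupp.single_eq_same,
      Nat.factorization_eq_zero_of_not_dvd (by norm_num : ¬ 2 ∣ 45)]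
  obtain ⟨φ, hφ⟩ := exists_sylow_equiv (p := 2) e UK (V := cen tA ⊓ cen tB) (by rw [card_inf, hf]; norm_num)
  set La := (cen tA).comap φ.toMonoidHom
  set Lb := (cen tB).comap φ.toMonoidHom
  have hUeq : (UK : Subgroup K) = La ⊓ Lb := by
    rw [← Subgroup.comap_inf, ← hφ, Subgroup.comap_map_eq_self_of_injective φ.injective]
  have hle : ∀ {s t : Subgroup ↥(alternatingGroup (Fin 6))}, s.comap φ.toMonoidHom ≤ t.comap φ.toMonoidHom → s ≤ t := fun h =>
    (Subgroup.comap_le_comap_of_surjective φ.surjective).1 h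
  obtain ⟨⟨s1, a1, b1⟩, s2, a2, b2⟩ := witness
  have hnab : ¬ cen tA ≤ cen tB := fun h =>
    b1 (mem_cen.1 (h (show (⟨_, Perm.mem_alternatingGroup.2 s1⟩ : ↥(alternatingGroup (Fin 6))) ∈ cen tA from mem_cen.2 a1)))
  have hnba : ¬ cen tB ≤ cen tA := fun h =>
    b2 (mem_cen.1 (h (show (⟨_, Perm.mem_alternatingGroup.2 s2⟩ : ↥(alternatingGroup (Fin 6))) ∈ cen tB from mem_cen.2 a2)))
  have htop : ∀ {s : Subgroup ↥(alternatingGroup (Fin 6))}, s ≠ ⊤ → s.comap φ.toMonoidHom ≠ ⊤ := fun h e =>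
    h (Subgroup.comap_injective φ.surjective (e.trans (Subgroup.comap_top _).symm))
  have hnA : cen tA ≠ ⊤ := fun h => hnba (h.symm ▸ le_top)
  have hnB : cen tB ≠ ⊤ := fun h => hnab (h.symm ▸ le_top)
  obtain ⟨α, hα, hαe, hL⟩ := two_maximal c (La := La) (Lb := Lb) (hUeq.le.trans inf_le_left)
    (hUeq.le.trans inf_le_right) (htop hnA) (htop hnB) (fun h => hnab (hle h)) (fun h => hnba (hle h))
    fun L hUL hL => by
      rcases cover (L.map φ.toMonoidHom) (hφ.symm.le.trans (Subgroup.map_mono hUL))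
        (fun h => hL (Subgroup.map_injective φ.injective (h.trans (Subgroup.map_top_of_surjective _ φ.surjective).symm)))
        with h | h
      · exact Or.inl (Subgroup.map_le_iff_le_comap.1 h)
      · exact Or.inr (Subgroup.map_le_iff_le_comap.1 h)
  refine ⟨le_antisymm ?_ c.normalizer_le, Or.inr ⟨rfl, ⟨α, hα, La, hUeq.le.trans inf_le_left, ?_⟩, ?_⟩⟩
  · exact (hL.trans hUeq.symm.le).trans Subgroup.le_normalizer
  · rw [hαe]
    exact fun h => hnab (hle h.symm.le)
  · exact Or.inr (Or.inr ⟨e⟩)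

end Cfsg.Lib.PMinLie.AltSix
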