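import Cfsg.Agent.PMinLie.Cover
import Cfsg.Agent.Known.POver.Families
import Cfsg.Agent.Known.GTwoCover.Rad

/-!
# `G₂`: in characteristic two the two radicals are not isomorphic
-/

set_option autoImplicit false

namespace Cfsg.Lib.PMinLie

open Cfsg.Lib.BN Cfsg.Lib.Steinberg Cfsg.Lib.Known.POver Cfsg.Lie Cfsg.Lib.Chev Cfsg.Lib.GTwoCover
open Cfsg.Lib.GTwoInv (S2 half_eq x x_add x_zero comm mk mk_zero mk_inj exists_mk i0 i1 wv)

universe u v

variable {F : Type u} [Field F]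

/-- The commutators of two elements of the radical at the short node are long root elements. -/
theorem urad_commutator {a b : GL chevG2.Idx F} (ha : a ∈ Urad F) (hb : b ∈ Urad F) :
    ∃ t : F, a⁻¹ * b⁻¹ * a * b = x 11 t := by
  obtain ⟨A, C, D, E, G, rfl⟩ := exists_mk7 ha
  obtain ⟨A', C', D', E', G', rfl⟩ := exists_mk7 hb
  have key : ∀ A C D E G A' C' D' E' G' : F, ∃ s : F,
      mk A 0 C D E G * mk A' 0 C' D' E' G' = mk (A + A') 0 (C + C') (D + D') (E + E') 0 * x 11 s := by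
    intro A C D E G A' C' D' E' G'
    refine ⟨-(3 * C' * D) + (-(A' * E) + G) + G', ?_⟩
    conv_lhs => arg 2; rw [mk_zero7]
    simp only [← mul_assoc]
    rw [mk7_mul_x6, mk7_mul_x8, mk7_mul_x9, mk7_mul_x10, mk7_mul_x11]
    simp only [mk, x_zero, mul_one]
  obtain ⟨s, hs⟩ := key A C D E G A' C' D' E' G'
  obtain ⟨s', hs'⟩ := key A' C' D' E' G' A C D E G
  rw [add_comm A' A, add_comm C' C, add_comm D' D, add_comm E' E] at hs'
  refine ⟨-s' + s, ?_⟩
  rw [show ∀ u v : GL chevG2.Idx F, u⁻¹ * v⁻¹ * u * v = (v * u)⁻¹ * (u * v) from fun u v => by group, hs, hs',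
    mul_inv_rev, mul_assoc, inv_mul_cancel_left, x_inv', x_add]

theorem g79 (t u : F) : (x 9 u * x 7 t : GL chevG2.Idx F) = x 7 t * x 9 u * x 10 (-(3 * t * u)) ∨
    (x 9 u * x 7 t : GL chevG2.Idx F) = x 7 t * x 9 u * x 10 (3 * t * u) := by
  have e : chevG2.commTerms 7 9 = [(10, (3, (1, 1)))] := by decide +kernel
  rw [comm (by norm_num) (by norm_num) (by norm_num) (by decide +kernel), ChevalleyDatum.commWord, e]
  simp [Ok.wG, x, mul_assoc]

theorem g89' [CharP F 2] (t : F) : (x 9 (1 : F))⁻¹ * (x 8 t)⁻¹ * x 9 1 * x 8 t = (x 11 t : GL chevG2.Idx F) := by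
  rw [show ∀ u v : GL chevG2.Idx F, u⁻¹ * v⁻¹ * u * v = (v * u)⁻¹ * (u * v) from fun u v => by group, g89,
    inv_mul_cancel_left, mul_one]
  congr 1
  rw [CharTwo.neg_eq]
  linear_combination (t : F) * (CharTwo.two_eq_zero (R := F))

theorem g79' [CharP F 2] (t : F) : (x 9 (1 : F))⁻¹ * (x 7 t)⁻¹ * x 9 1 * x 7 t = (x 10 t : GL chevG2.Idx F) := by
  rw [show ∀ u v : GL chevG2.Idx F, u⁻¹ * v⁻¹ * u * v = (v * u)⁻¹ * (u * v) from fun u v => by group]
  rcases g79 (F := F) t 1 with e | e <;> rw [e, inv_mul_cancel_left, mul_one] <;> congr 1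
  · rw [CharTwo.neg_eq]; linear_combination (t : F) * (CharTwo.two_eq_zero (R := F))
  · linear_combination (t : F) * (CharTwo.two_eq_zero (R := F))

theorem back_roots : (∀ r ∈ [6, 8, 9, 10, 11], ∃ r' ∈ List.range 12, 6 ≤ r' ∧ wv [i0] r' = r) ∧
    (∀ r ∈ [7, 8, 9, 10, 11], ∃ r' ∈ List.range 12, 6 ≤ r' ∧ wv [i1] r' = r) ∧ wv [i0] 4 = 7 := by decide +kernel

theorem g2_hd : ∀ i j : Fin chevG2.rank, i ≠ j → G2.cert.sr i.val ≠ G2.cert.sr j.val :=
  fun i j h => S2.simple_ne okNeg_G2 i j h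

/-- The set of commutators. -/
def cset (R : Type*) [Group R] : Set R := Set.range fun z : R × R => z.1⁻¹ * z.2⁻¹ * z.1 * z.2

theorem card_cset_congr {R R' : Type*} [Group R] [Group R'] [Finite R] (φ : R ≃* R') :
    Nat.card ↥(cset R') ≤ Nat.card ↥(cset R) := by
  have h : cset R' ⊆ φ '' cset R := by
    rintro _ ⟨⟨a, b⟩, rfl⟩
    exact ⟨_, ⟨(φ.symm a, φ.symm b), rfl⟩, by simp⟩
  exact (Nat.card_mono (Set.toFinite _) h).trans (Nat.card_image_le (Set.toFinite _))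

theorem card_cset_le {R G : Type*} [Group R] [Group G] (ψ : R →* G) (hψ : Function.Injective ψ) {T : Set G}
    (hT : T.Finite) (h : ∀ a b : R, (ψ a)⁻¹ * (ψ b)⁻¹ * ψ a * ψ b ∈ T) : Nat.card ↥(cset R) ≤ Nat.card ↥T := by
  rw [← Nat.card_image_of_injective hψ]
  refine Nat.card_mono hT ?_
  rintro _ ⟨_, ⟨⟨a, b⟩, rfl⟩, rfl⟩
  simpa using h a b

theorem le_card_cset {R G : Type*} [Group R] [Group G] [Finite R] (ψ : R →* G) {T : Set G}
    (h : ∀ x ∈ T, ∃ a b : R, (ψ a)⁻¹ * (ψ b)⁻¹ * ψ a * ψ b = x) : Nat.card ↥T ≤ Nat.card ↥(cset R) := by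
  refine (Nat.card_mono (Set.toFinite _) (t := ψ '' cset R) ?_).trans (Nat.card_image_le (Set.toFinite _))
  intro x hx
  obtain ⟨a, b, e⟩ := h x hx
  exact ⟨_, ⟨(a, b), rfl⟩, by simpa using e⟩

variable [Fintype F]

set_option maxHeartbeats 1000000 in
theorem goal_gTwo {p : ℕ} [Fact p.Prime] [CharP F p] {K : Type v} [Group K] [Finite K] [IsSimpleGroup K]
    (e : K ≃* ↥(chevG2.group F)) : Goal p K := by
  classical
  obtain ⟨P, U, hd⟩ := exists_chevData (F := F) p chevG2 (by simp)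
  obtain ⟨P₂, hB, -, hS⟩ := S2.exists_bnPair (F := F) g2_hd
  have hBB : P₂.B = P.B := hB.trans hd.B_eq.symm
  set t : Fin chevG2.rank → ↥(chevG2.group F) :=
    fun i => ⟨S2.ok.nG (chevG2.simple i) (1 : F), S2.ok.nG_mem_group _ _⟩
  have ht : ∀ i, t i ∈ P₂.S := fun i => by rw [hS]; exact ⟨i, i.isLt, by simp [t, S2.ok.val_nG]⟩
  have htne : t i0 ≠ t i1 := fun h => by
    have h2 : i0 = i1 := S2.nG_inv_mul_mem (F := F) g2_hd (by
      rw [show S2.ok.nG (chevG2.simple i0) (1 : F) = S2.ok.nG (chevG2.simple i1) 1 from congrArg Subtype.val h,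
        inv_mul_cancel]
      exact one_mem _)
    exact absurd (congrArg Fin.val h2) (by decide)
  obtain ⟨a, ha, ha0, hat⟩ := exists_match (P := P) P₂ hBB (ht i0)
  obtain ⟨b, hb, hb1, hbt⟩ := exists_match (P := P) P₂ hBB (ht i1)
  have hab : a ≠ b := fun h => htne (match_injective (P := P) P₂ hBB (ht i0) (ht i1) ha ha0 (h ▸ hb1))
  have hker : (MonoidHom.id ↥(chevG2.group F)).ker ≤ P.B := by rw [MonoidHom.ker_id]; exact bot_le
  refine goal_of_cover hd.split (f := MonoidHom.id _) Function.surjective_id hker e (fun hU => ?_)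
    (Kind.two a b ha hb hab fun hp hsw => absurd hsw fun hsw => ?_)
  · rw [MonoidHom.ker_id]
    refine radical_of_radNormal hd.split bot_le fun J hJ => ?_
    have h := hd.rad (Set.toFinite J).toFinset fun x hx => by
      rw [← Finset.mem_coe, coe_gens]; exact hJ (by simpa using hx)
    simpa using h
  subst hp
  obtain ⟨ψ⟩ := hsw.rad_equiv hd.split (push_surjective Function.surjective_id e) ((push_ker e).le.trans hker) ha hb
  have finj : Function.Injective (push (MonoidHom.id ↥(chevG2.group F)) e) := by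
    rw [← MonoidHom.ker_eq_bot_iff, push_ker, MonoidHom.ker_id]
  set φ : ↥(rad P U a) ≃* ↥(rad P U b) :=
    ((rad P U a).equivMapOfInjective _ finj).trans (ψ.trans ((rad P U b).equivMapOfInjective _ finj).symm)
  have hB' : ∀ g : ↥(chevG2.group F), g ∈ P.B ↔ (g : GL chevG2.Idx F) ∈ chevG2.borelSubgroup F := fun g => by
    rw [hd.B_eq]; rfl
  have hU' : ∀ g : ↥(chevG2.group F), g ∈ U ↔ (g : GL chevG2.Idx F) ∈ chevG2.posUnipotent F := fun g => by
    rw [hd.U_eq]; rfl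
  have hnL : ∀ i, ((t i : ↥(chevG2.group F)) : GL chevG2.Idx F) = S2.nL F [i] := fun i => by
    simp [t, Struct.nL]
  have hsplit : ∀ i (s : ↥(chevG2.group F)), s ∈ P.S → s ∈ P₂.parabolic {t i} →
      ∃ c ∈ P.B, ∀ g, g ∈ rad P U s ↔ g ∈ U ∧ (t i)⁻¹ * (c⁻¹ * g * c) * t i ∈ P.B := by
    intro i s hs hst
    rcases mem_parabolic_single (ht i) hst with h | h
    · exact absurd (hBB ▸ h) (not_mem_B hs)
    obtain ⟨c, hc, c', hc', rfl⟩ := mem_dc.1 h
    rw [hBB] at hc hc'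
    refine ⟨c, hc, fun g => mem_rad.trans (and_congr_right fun _ => ⟨fun h1 => ?_, fun h1 => ?_⟩)⟩
    · have := mul_mem (mul_mem hc' h1) (inv_mem hc')
      convert this using 1; group
    · have := mul_mem (mul_mem (inv_mem hc') h1) hc'
      convert this using 1; group
  have hin : ∀ (i : Fin chevG2.rank) (r : ℕ), r < 12 → 6 ≤ r → (∃ r' ∈ List.range 12, 6 ≤ r' ∧ wv [i] r' = r) →
      ∀ z : F, (t i : GL chevG2.Idx F)⁻¹ * x r z * t i ∈ chevG2.borelSubgroup F := by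
    rintro i r - - ⟨r', hr', h6, hw⟩ z
    obtain ⟨s, hs⟩ := act_conj' (S2.act_nL (F := F) [i]) (List.mem_range.1 hr') hw z
    rw [hnL, hs]
    exact S2.B_le_of (S2.xG_mem_U (half_eq.1.symm ▸ h6) (half_eq.2.symm ▸ List.mem_range.1 hr') s)
  obtain ⟨ca, hca, hra⟩ := hsplit i0 a ha ha0
  obtain ⟨cb, hcb, hrb⟩ := hsplit i1 b hb hb1
  -- the radical at the short node has few commutators
  have hsub : ∀ g ∈ rad P U a, ((ca⁻¹ * g * ca : ↥(chevG2.group F)) : GL chevG2.Idx F) ∈ Urad F := by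
    intro g hg
    obtain ⟨hgU, hgB⟩ := (hra g).1 hg
    have hmem : ((ca⁻¹ * g * ca : ↥(chevG2.group F)) : GL chevG2.Idx F) ∈ chevG2.posUnipotent F :=
      (hU' _).1 (by simpa using hd.split.normal _ (inv_mem hca) _ hgU)
    obtain ⟨A, B, C, D, E, G, hg'⟩ := exists_mk hmem
    rw [hB'] at hgB
    rw [Subgroup.coe_mul, Subgroup.coe_mul, hg', Subgroup.coe_inv] at hgB
    have hx : ∀ r ∈ radRoots, ∀ z : F, (t i0 : GL chevG2.Idx F)⁻¹ * x r z * t i0 ∈ chevG2.borelSubgroup F :=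
      fun r hr z => hin i0 r (radRoots_lt r hr).1 (radRoots_lt r hr).2 (back_roots.1 r hr) z
    set n : GL chevG2.Idx F := (t i0 : GL chevG2.Idx F)
    have h7 : n⁻¹ * x 7 B * n ∈ chevG2.borelSubgroup F := by
      have h1 := hx 6 (by simp [radRoots]) A
      have h2 := mul_mem (mul_mem (mul_mem (hx 8 (by simp [radRoots]) C) (hx 9 (by simp [radRoots]) D))
        (hx 10 (by simp [radRoots]) E)) (hx 11 (by simp [radRoots]) G)
      have := mul_mem (mul_mem (inv_mem h1) hgB) (inv_mem h2)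
      convert this using 1
      simp only [mk]
      group
    obtain ⟨s, hs⟩ := act_conj' (S2.act_nL (F := F) [i0]) (r := 4) (by norm_num) back_roots.2.2 B
    rw [← hnL] at hs
    have h8 : (x 4 s : GL chevG2.Idx F) ∈ chevG2.borelSubgroup F ⊓ chevG2.negUnipotent F :=
      ⟨hs ▸ h7, Subgroup.subset_closure ⟨4, s, by decide +kernel, S2.ok.val_xG _ _⟩⟩
    rw [S2.B_inf_V okNeg_G2, Subgroup.mem_bot] at h8
    have hB0 : B = 0 := by
      rw [h8] at hs
      refine S2.xG_eq_one (half_eq.2.symm ▸ (show 7 < 12 by norm_num)) ?_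
      show (x 7 B : GL chevG2.Idx F) = 1
      rwa [mul_eq_one_iff_eq_inv, mul_eq_left] at hs
    rw [hg', hB0, mk_zero7]
    exact mul_mem (mul_mem (mul_mem (mul_mem (x_mem_Urad (by simp [radRoots]) A)
      (x_mem_Urad (by simp [radRoots]) C)) (x_mem_Urad (by simp [radRoots]) D))
      (x_mem_Urad (by simp [radRoots]) E)) (x_mem_Urad (by simp [radRoots]) G)
  -- the radical at the long node has many
  have hmem : ∀ r ∈ [7, 8, 9, 10, 11], ∀ z : F, ∃ g ∈ rad P U b,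
      ((cb⁻¹ * g * cb : ↥(chevG2.group F)) : GL chevG2.Idx F) = x r z := by
    intro r hr z
    have h6 : r < 12 ∧ 6 ≤ r := by fin_cases hr <;> norm_num
    have hp : (x r z : GL chevG2.Idx F) ∈ chevG2.posUnipotent F :=
      S2.xG_mem_U (half_eq.1.symm ▸ h6.2) (half_eq.2.symm ▸ h6.1) z
    set y : ↥(chevG2.group F) := ⟨x r z, S2.ok.xG_mem_group r z⟩
    have e1 : cb⁻¹ * (cb * y * cb⁻¹) * cb = y := by group
    refine ⟨cb * y * cb⁻¹, (hrb _).2 ⟨hd.split.normal _ hcb _ ((hU' y).2 hp), ?_⟩, by rw [e1]⟩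
    rw [e1, hB', Subgroup.coe_mul, Subgroup.coe_mul, Subgroup.coe_inv]
    exact hin i1 r h6.1 h6.2 (back_roots.2.1 r hr) z
  -- count the commutators
  let ψa : ↥(rad P U a) →* GL chevG2.Idx F :=
    (chevG2.group F).subtype.comp ((MulAut.conj ca⁻¹).toMonoidHom.comp (rad P U a).subtype)
  let ψb : ↥(rad P U b) →* GL chevG2.Idx F :=
    (chevG2.group F).subtype.comp ((MulAut.conj cb⁻¹).toMonoidHom.comp (rad P U b).subtype)
  have ea : ∀ g, ψa g = ((ca⁻¹ * g * ca : ↥(chevG2.group F)) : GL chevG2.Idx F) := fun g => by simp [ψa]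
  have eb : ∀ g, ψb g = ((cb⁻¹ * g * cb : ↥(chevG2.group F)) : GL chevG2.Idx F) := fun g => by simp [ψb]
  have ψinj : Function.Injective ψa :=
    (Subgroup.subtype_injective _).comp ((MulAut.conj ca⁻¹).injective.comp (Subgroup.subtype_injective _))
  have hA : Nat.card ↥(cset ↥(rad P U a)) ≤ Nat.card ↥(Set.range fun z : F => (x 11 z : GL chevG2.Idx F)) := by
    refine card_cset_le ψa ψinj (Set.toFinite _) fun g h => ?_
    obtain ⟨z, hz⟩ := urad_commutator (hsub g g.2) (hsub h h.2)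
    exact ⟨z, by rw [ea, ea]; exact hz.symm⟩
  have hBs : Nat.card ↥((Set.range fun z : F => (x 10 z : GL chevG2.Idx F)) ∪ Set.range fun z : F => x 11 z) ≤
      Nat.card ↥(cset ↥(rad P U b)) := by
    refine le_card_cset ψb ?_
    rintro _ (⟨z, rfl⟩ | ⟨z, rfl⟩)
    · obtain ⟨g, hg, eg⟩ := hmem 9 (by simp) 1
      obtain ⟨h, hh, eh⟩ := hmem 7 (by simp) z
      exact ⟨⟨g, hg⟩, ⟨h, hh⟩, by rw [eb, eb, eg, eh, g79']⟩
    · obtain ⟨g, hg, eg⟩ := hmem 9 (by simp) 1
      obtain ⟨h, hh, eh⟩ := hmem 8 (by simp) z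
      exact ⟨⟨g, hg⟩, ⟨h, hh⟩, by rw [eb, eb, eg, eh, g89']⟩
  have inj : Function.Injective fun z : F => (x 11 z : GL chevG2.Idx F) := fun z z' h => by
    have h' : mk 0 0 0 0 (0 : F) z = mk 0 0 0 0 0 z' := by simpa [mk, x_zero] using h
    exact (mk_inj h').2.2.2.2.2
  have hlt : Nat.card ↥(Set.range fun z : F => (x 11 z : GL chevG2.Idx F)) <
      Nat.card ↥((Set.range fun z : F => (x 10 z : GL chevG2.Idx F)) ∪ Set.range fun z : F => x 11 z) := by
    refine Set.ncard_lt_ncard ⟨Set.subset_union_right, fun h => ?_⟩ (Set.toFinite _)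
    obtain ⟨z, hz⟩ := h (Or.inl ⟨1, rfl⟩)
    have h0 : mk 0 0 0 0 0 z = mk 0 0 0 0 (1 : F) 0 := by simpa [mk, x_zero] using hz
    exact one_ne_zero (mk_inj h0).2.2.2.2.1.symm
  exact absurd (hlt.trans_le (hBs.trans ((card_cset_congr φ).trans hA))) (lt_irrefl _)

end Cfsg.Lib.PMinLie
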