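import Cfsg.Agent.PMinLie.Engine
import Cfsg.Prelude.Def_LocalEven

/-!
# What `p`-minimality says about a normal subgroup
-/

set_option autoImplicit false

namespace Cfsg.Lib.PMinLie

universe u

theorem exists_ctx {X : Type u} [Group X] [Finite X] {p : ℕ} [Fact p.Prime] (hX : Cfsg.IsPMinimal p X)
    (K : Subgroup X) [K.Normal] (U : Sylow p ↥K) (hN : Subgroup.normalizer ((U : Subgroup ↥K) : Set ↥K) ≠ ⊤) :
    ∃ A Lmax, Ctx p (U : Subgroup ↥K) A Lmax ∧
      (Lmax = Subgroup.normalizer ((U : Subgroup ↥K) : Set ↥K) →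
        IsCoatom (Subgroup.normalizer (((U : Subgroup ↥K).map K.subtype : Subgroup X) : Set X))) ∧
      (Moves (U : Subgroup ↥K) A → K ≠ ⊤) := by
  obtain ⟨S, hS⟩ := IsPGroup.exists_le_sylow ((U.2).map K.subtype)
  set N := Subgroup.normalizer (((U : Subgroup ↥K).map K.subtype : Subgroup X) : Set X) with hNdef
  obtain ⟨-, M, ⟨hM, hSM⟩, huniq⟩ := hX S
  have hUS : ((S : Subgroup X)).subgroupOf K = (U : Subgroup ↥K) :=
    U.3 (S.2.comap_of_injective _ Subtype.val_injective)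
      fun y hy => Subgroup.mem_subgroupOf.2 (hS ⟨y, hy, rfl⟩)
  have hSN : (S : Subgroup X) ≤ N := fun s hs => by
    refine Subgroup.mem_normalizer_iff.2 fun x => ⟨?_, ?_⟩
    · rintro ⟨u, hu, rfl⟩
      rw [← hUS] at hu ⊢
      exact ⟨⟨s * u * s⁻¹, ‹K.Normal›.conj_mem _ u.2 s⟩, Subgroup.mem_subgroupOf.2
        (mul_mem (mul_mem hs (Subgroup.mem_subgroupOf.1 hu)) (inv_mem hs)), rfl⟩
    · rintro ⟨u, hu, e⟩
      rw [← hUS] at hu ⊢
      refine ⟨⟨s⁻¹ * u * s⁻¹⁻¹, ‹K.Normal›.conj_mem _ u.2 s⁻¹⟩, Subgroup.mem_subgroupOf.2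
        (mul_mem (mul_mem (inv_mem hs) (Subgroup.mem_subgroupOf.1 hu)) (inv_mem (inv_mem hs))), ?_⟩
      change s⁻¹ * (u : X) * s⁻¹⁻¹ = x
      rw [show (u : X) = s * x * s⁻¹ from e]
      group
  have hNK : ∀ k : ↥K, (k : X) ∈ N ↔ k ∈ Subgroup.normalizer ((U : Subgroup ↥K) : Set ↥K) := fun k => by
    simp only [hNdef, Subgroup.mem_normalizer_iff, Subgroup.mem_map, Subgroup.coe_subtype]
    constructor
    · intro h x
      constructor
      · intro hx
        obtain ⟨y, hy, e⟩ := (h x).1 ⟨x, hx, rfl⟩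
        exact (Subtype.ext e : y = k * x * k⁻¹) ▸ hy
      · intro hx
        obtain ⟨y, hy, e⟩ := (h x).2 ⟨_, hx, rfl⟩
        exact (Subtype.ext e : y = x) ▸ hy
    · intro h x
      constructor
      · rintro ⟨y, hy, rfl⟩
        exact ⟨_, (h y).1 hy, rfl⟩
      · rintro ⟨y, hy, e⟩
        refine ⟨k⁻¹ * y * k, (h _).2 ?_, ?_⟩
        · convert hy using 1
          group
        · simp only [Subgroup.coe_mul, Subgroup.coe_inv, e]
          group
  have hNtop : N ≠ ⊤ := fun h => hN (eq_top_iff.2 fun k _ => (hNK k).1 (h ▸ Subgroup.mem_top _))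
  have toM : ∀ L : Subgroup X, (S : Subgroup X) ≤ L → L ≠ ⊤ → L ≤ M := fun L hSL hL => by
    obtain ⟨C, hC, hLC⟩ := (eq_top_or_exists_le_coatom L).resolve_left hL
    exact huniq C ⟨hC, hSL.trans hLC⟩ ▸ hLC
  have hNM : N ≤ M := toM N hSN hNtop
  have hfr : N ⊔ K = ⊤ := Sylow.normalizer_sup_eq_top U
  set A := (S : Subgroup X).map (MulAut.conjNormal (H := K)) with hA
  set Lmax := M.comap K.subtype with hLmax
  have hmem : ∀ s ∈ (S : Subgroup X), ∀ L : Subgroup ↥K, (∀ y ∈ L, MulAut.conjNormal s y ∈ L) →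
      L.map (MulAut.conjNormal s : ↥K ≃* ↥K).toMonoidHom = L := fun s _ L hL =>
    Subgroup.eq_of_le_of_card_ge (Subgroup.map_le_iff_le_comap.2 hL)
      (le_of_eq (Nat.card_congr ((L.equivMapOfInjective _ (MulAut.conjNormal s).injective).toEquiv)))
  refine ⟨A, Lmax, ⟨S.2.map _, ?_, ?_, ?_, ?_, ?_⟩, ?_, ?_⟩
  · rintro _ ⟨s, hs, rfl⟩
    refine hmem s hs _ fun y hy => ?_
    rw [← hUS] at hy ⊢
    rw [Subgroup.mem_subgroupOf, MulAut.conjNormal_apply]
    exact mul_mem (mul_mem hs (Subgroup.mem_subgroupOf.1 hy)) (inv_mem hs)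
  · intro h
    refine hM.1 (top_unique (hfr ▸ sup_le hNM fun k hk => ?_))
    exact h.ge (Subgroup.mem_top (⟨k, hk⟩ : ↥K))
  · rintro _ ⟨s, hs, rfl⟩
    refine hmem s hs _ fun y hy => ?_
    rw [hLmax, Subgroup.mem_comap, Subgroup.coe_subtype, MulAut.conjNormal_apply]
    exact mul_mem (mul_mem (hSM hs) hy) (inv_mem (hSM hs))
  · exact fun k hk => hNM ((hNK k).2 hk)
  · intro L hUL hL hinv k hk
    have hnorm : (S : Subgroup X) ≤ Subgroup.normalizer ((L.map K.subtype : Subgroup X) : Set X) := fun s hs =>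
      Subgroup.mem_normalizer_fintype (by
        rintro _ ⟨y, hy, rfl⟩
        exact ⟨MulAut.conjNormal s y, (hinv _ ⟨s, hs, rfl⟩).le ⟨y, hy, rfl⟩,
          MulAut.conjNormal_apply s y⟩)
    refine toM (L.map K.subtype ⊔ S) le_sup_right (fun e => hL ?_) (Subgroup.mem_sup_left ⟨k, hk, rfl⟩)
    refine eq_top_iff.2 fun x _ => ?_
    have hx : (x : X) ∈ ((L.map K.subtype ⊔ S : Subgroup X) : Set X) := by rw [e]; trivial
    rw [Subgroup.coe_mul_of_right_le_normalizer_left _ _ hnorm] at hx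
    obtain ⟨_, ⟨l, hl, rfl⟩, s, hs, e'⟩ := hx
    have hsK : s ∈ K := by
      have : s = (l : X)⁻¹ * x := by rw [← e']; simp
      exact this ▸ mul_mem (inv_mem l.2) x.2
    have : x = l * ⟨s, hsK⟩ := Subtype.ext e'.symm
    rw [this]
    exact mul_mem hl (hUL (hUS ▸ Subgroup.mem_subgroupOf.2 hs))
  · intro h
    have hle : M ≤ N := fun m hm => by
      have hx : m ∈ ((N ⊔ K : Subgroup X) : Set X) := by rw [hfr]; trivial
      rw [sup_comm, Subgroup.normal_mul] at hx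
      obtain ⟨k, hk, n, hn, rfl⟩ := hx
      exact mul_mem ((hNK ⟨k, hk⟩).2 (h.le (show ((⟨k, hk⟩ : ↥K) : X) ∈ M by
        simpa using mul_mem hm (inv_mem (hNM hn))))) hn
    exact le_antisymm hle hNM ▸ hM
  · rintro ⟨_, ⟨s, hs, rfl⟩, L, hUL, hne⟩ hK
    have hsK : s ∈ K := hK ▸ Subgroup.mem_top s
    have hsL : (⟨s, hsK⟩ : ↥K) ∈ L := hUL (hUS ▸ Subgroup.mem_subgroupOf.2 hs)
    refine hne (hmem s hs L fun y hy => ?_)
    have e : MulAut.conjNormal s y = ⟨s, hsK⟩ * y * (⟨s, hsK⟩ : ↥K)⁻¹ := Subtype.ext (MulAut.conjNormal_apply s y)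
    exact e ▸ mul_mem (mul_mem hsL hy) (inv_mem hsL)

end Cfsg.Lib.PMinLie
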