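import Cfsg.Agent.PMinLie.SmallBase
import Cfsg.Agent.Known.POver.Small
import Cfsg.Agent.Known.POver.Main
import Cfsg.Agent.Components.Cores

/-!
# `L₂(8)` in characteristic three
-/

set_option autoImplicit false

namespace Cfsg.Lib.PMinLie.PSLEight

open Cfsg.Lib.Known.POver.Small

universe u v

/-- No element of order six. -/
theorem no_six {F : Type u} [Field F] [Fintype F] (hF : Fintype.card F = 8)
    (g : Matrix.ProjectiveSpecialLinearGroup (Fin 2) F) : orderOf g ≠ 6 := by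
  classical
  intro hg
  have : Fact (Nat.Prime 2) := ⟨Nat.prime_two⟩
  have : CharP F 2 := charP_of_card_eq_prime_pow (f := 3) hF
  have hc : Subgroup.center (Matrix.SpecialLinearGroup (Fin 2) F) = ⊥ := by
    refine eq_bot_iff.2 fun g hg => ?_
    obtain ⟨r, hr, hrg⟩ := Matrix.SpecialLinearGroup.mem_center_iff.1 hg
    simp only [Fintype.card_fin] at hr
    have hr1 : r = 1 := by
      have : (r - 1) ^ 2 = 0 := by linear_combination hr + (1 - r) * (CharTwo.two_eq_zero (R := F))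
      exact sub_eq_zero.1 (pow_eq_zero_iff two_ne_zero |>.1 this)
    refine Subgroup.mem_bot.2 (Subtype.ext ?_)
    rw [← hrg, hr1]; simp
  obtain ⟨x, rfl⟩ := QuotientGroup.mk_surjective g
  have hx : ∀ n : ℕ, ((x : Matrix.ProjectiveSpecialLinearGroup (Fin 2) F)) ^ n = 1 → x ^ n = 1 := fun n h => by
    rw [← QuotientGroup.mk_pow, QuotientGroup.eq_one_iff, hc, Subgroup.mem_bot] at h
    exact h
  have h6 := hx 6 (hg ▸ pow_orderOf_eq_one _)
  set A : Matrix (Fin 2) (Fin 2) F := (x : Matrix (Fin 2) (Fin 2) F) with hA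
  have hdet : A 0 0 * A 1 1 - A 0 1 * A 1 0 = 1 := by
    rw [← Matrix.det_fin_two, hA]; exact x.2
  have h2 : (2 : F) = 0 := CharTwo.two_eq_zero
  set t := A 0 0 + A 1 1 with ht
  have e2 : A * A = t • A + 1 := by
    ext i j
    fin_cases i <;> fin_cases j <;> simp [Matrix.mul_apply, Fin.sum_univ_two, ht] <;>
      first | ring1 | linear_combination hdet + h2 | linear_combination -hdet - h2
  have e3 : A * A * A = (t * t + 1) • A + t • 1 := by
    rw [e2, add_mul, one_mul, smul_mul_assoc, e2, smul_add, smul_smul, add_smul (t * t) 1 A, one_smul]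
    abel
  have e6 : A * A * A * (A * A * A) = 1 := by
    have := congrArg (fun y : Matrix.SpecialLinearGroup (Fin 2) F => (y : Matrix (Fin 2) (Fin 2) F)) h6
    simp only [Matrix.SpecialLinearGroup.coe_pow, Matrix.SpecialLinearGroup.coe_one] at this
    rw [← this, hA]
    simp only [pow_succ, pow_zero, one_mul, mul_assoc]
  have ht0 : t * (t + 1) ^ 2 = 0 := by
    have tr : (A * A * A) 0 0 + (A * A * A) 1 1 = t * (t + 1) ^ 2 := by
      rw [e3]
      simp [ht]
      linear_combination ((A 0 0 + A 1 1) - (A 0 0 + A 1 1) * (A 0 0 + A 1 1)) * h2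
    have hd : (A * A * A).det = 1 := by rw [Matrix.det_mul, Matrix.det_mul, hA, x.2, one_mul, one_mul]
    rw [Matrix.det_fin_two] at hd
    have c0 := congrFun (congrFun e6 0) 0
    have c1 := congrFun (congrFun e6 1) 1
    simp only [Matrix.mul_apply (M := A * A * A), Fin.sum_univ_two, Matrix.one_apply_eq] at c0 c1
    rw [← tr]
    refine mul_self_eq_zero.1 ?_
    linear_combination c0 + c1 + 2 * hd + (2 : F) * h2
  have ne : ∀ n : ℕ, n ∣ 6 → n ≠ 6 → x ^ n ≠ 1 := fun n hn hn6 e => by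
    have h := orderOf_dvd_of_pow_eq_one
      (show ((x : Matrix.ProjectiveSpecialLinearGroup (Fin 2) F)) ^ n = 1 by rw [← QuotientGroup.mk_pow, e]; rfl)
    rw [hg] at h
    exact hn6 (Nat.dvd_antisymm hn h)
  rcases mul_eq_zero.1 ht0 with e | e
  · refine ne 2 (by norm_num) (by norm_num) (Subtype.ext ?_)
    rw [Matrix.SpecialLinearGroup.coe_pow, pow_two]
    show A * A = _
    rw [e2, e]; simp
  · refine ne 3 (by norm_num) (by norm_num) (Subtype.ext ?_)
    have e1 : t = 1 := by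
      rw [pow_eq_zero_iff two_ne_zero] at e
      linear_combination e - h2
    rw [Matrix.SpecialLinearGroup.coe_pow, pow_succ, pow_two]
    show A * A * A = _
    rw [e3, e1, show (1 : F) * 1 + 1 = 0 by linear_combination h2]
    simp

theorem goal {F : Type} [Field F] [Fintype F] (hF : Fintype.card F = 8) {K : Type v} [Group K] [Finite K]
    [IsSimpleGroup K] (e : K ≃* Matrix.ProjectiveSpecialLinearGroup (Fin 2) F) : Goal 3 K := by
  have : Fact (Nat.Prime 3) := ⟨Nat.prime_three⟩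
  have hK : Nat.card K = 504 := by rw [Nat.card_congr e.toEquiv, card_psl_two_eight hF]
  refine ⟨fun U => normalizer_ne_top_of_simple (by rw [hK]; norm_num) Nat.prime_two (by norm_num)
    (by rw [hK]; norm_num) U, fun UK A Lmax c => ⟨le_antisymm ?_ c.normalizer_le,
      Or.inl (Or.inr (Or.inr (Or.inr ⟨rfl, Or.inr ⟨F, inferInstance, inferInstance, hF, ⟨e⟩⟩⟩)))⟩⟩
  by_contra hle
  have hNL : (UK : Subgroup K) ≤ Lmax := Subgroup.le_normalizer.trans c.normalizer_le
  set U' : Sylow 3 ↥Lmax := UK.subtype hNL with hU'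
  have hnorm : ∀ x : ↥Lmax, x ∈ Subgroup.normalizer ((U' : Subgroup ↥Lmax) : Set ↥Lmax) →
      (x : K) ∈ Subgroup.normalizer ((UK : Subgroup K) : Set K) := fun x hx => by
    refine Subgroup.mem_normalizer_fintype fun u hu => ?_
    exact (Subgroup.mem_normalizer_iff.1 hx ⟨u, hNL hu⟩).1 hu
  set k := Nat.card (Sylow 3 ↥Lmax) with hk
  have hk1 : k ≠ 1 := fun h => hle fun x hx => by
    refine hnorm ⟨x, hx⟩ ?_
    rw [show Subgroup.normalizer ((U' : Subgroup ↥Lmax) : Set ↥Lmax) = ⊤ from Subgroup.index_eq_one.1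
      (U'.card_eq_index_normalizer.symm.trans h)]
    exact Subgroup.mem_top _
  have hU9 : Nat.card (UK : Subgroup K) = 9 := by
    rw [UK.card_eq_multiplicity, hK, show (504 : ℕ) = 3 ^ 2 * 56 by norm_num,
      Nat.factorization_mul (by norm_num) (by norm_num), Finsupp.add_apply, Nat.prime_three.factorization_pow,
      Finsupp.single_eq_same, Nat.factorization_eq_zero_of_not_dvd (by norm_num : ¬ 3 ∣ 56)]
    norm_num
  obtain ⟨d, hd⟩ : 9 ∣ Nat.card Lmax := hU9 ▸ Subgroup.card_dvd_of_le hNL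
  have hL := Lmax.card_mul_index
  rw [hK, hd] at hL
  have hdi : d * Lmax.index = 56 := by
    have : 9 * (d * Lmax.index) = 9 * 56 := by rw [← mul_assoc, hL]
    omega
  have h7 : 7 ≤ Lmax.index := by
    by_contra hlt
    have h1 := dvd_index_factorial c.ne_top
    rw [hK] at h1
    have h8 : Lmax.index.factorial ≤ (6 : ℕ).factorial := Nat.factorial_le (by omega)
    have h9 := Nat.le_of_dvd (Nat.factorial_pos _) h1
    have h10 : Lmax.index ≠ 6 := fun e => by rw [e] at hdi; omega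
    have h11 : Lmax.index.factorial ≤ (5 : ℕ).factorial := Nat.factorial_le (by omega)
    norm_num [Nat.factorial] at h11
    omega
  have hd8 : d ≤ 8 := by
    by_contra hlt
    have : 9 * 7 ≤ d * Lmax.index := Nat.mul_le_mul (by omega) h7
    omega
  have hkd : k ∣ 9 * d ∧ ¬ 3 ∣ k ∧ k % 3 = 1 := by
    obtain ⟨k', hk', hk1', hk2'⟩ := sylow_count (M := ↥Lmax) (r := 3) hd
    rw [← hk'] at hk1' hk2'
    exact ⟨hk1', by omega, hk2'⟩
  obtain ⟨hk9, hk3, hkm⟩ := hkd
  have hkd' : k ∣ d := ((Nat.prime_three.coprime_iff_not_dvd.2 hk3).symm.pow_right 2).dvd_of_dvd_mul_left hk9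
  have hd56 : d ∣ 56 := ⟨_, hdi.symm⟩
  have hd0 : d ≠ 0 := fun h => by rw [h] at hd; exact Nat.card_pos.ne' (hd.trans (mul_zero 9))
  have hglob : (k * Lmax.index) % 3 = 1 := by
    have h1 : Nat.card (Sylow 3 K) = k * Lmax.index := by
      refine UK.card_eq_index_normalizer.trans ((Subgroup.relIndex_mul_index c.normalizer_le).symm.trans ?_)
      congr 1
      refine Eq.trans ?_ U'.card_eq_index_normalizer.symm
      rw [Subgroup.relIndex]
      congr 1
      refine le_antisymm (fun x hx => ?_) fun x hx => Subgroup.mem_subgroupOf.2 (hnorm x hx)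
      refine Subgroup.mem_normalizer_fintype fun u hu => ?_
      exact (Subgroup.mem_normalizer_iff.1 (Subgroup.mem_subgroupOf.1 hx) u).1 hu
    have h2 := card_sylow_modEq_one 3 K
    rwa [h1, Nat.ModEq, Nat.one_mod_eq_one.2 (by norm_num)] at h2
  have hk48 : k = 4 ∧ d = 8 := by
    have hdec : ∀ d ∈ Finset.range 9, ∀ i ∈ Finset.range 57, ∀ j ∈ Finset.range 9, (d * i = 56 ∧ j ∣ d ∧ j % 3 = 1 ∧ j ≠ 1 ∧ j * i % 3 = 1) →
        j = 4 ∧ d = 8 := by decide +kernel
    have hi : Lmax.index < 57 := by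
      have h1 := Nat.le_of_dvd (by norm_num) (⟨d, by rw [← hdi, mul_comm]⟩ : Lmax.index ∣ 56)
      omega
    exact hdec d (Finset.mem_range.2 (Nat.lt_succ_of_le hd8)) _ (Finset.mem_range.2 hi) k
      (Finset.mem_range.2 <| Nat.lt_succ_of_le ((Nat.le_of_dvd (Nat.pos_of_ne_zero hd0) hkd').trans hd8)) ⟨hdi, hkd', hkm, hk1, hglob⟩
  obtain ⟨hk4, hd4⟩ := hk48
  have hcore : Cfsg.pCore 3 ↥Lmax ≠ ⊥ := fun h => by
    have h3 := dvd_factorial (p := 3) h
    have h2 : 2 ≤ (Nat.card ↥Lmax).factorization 3 :=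
      (Nat.prime_three.pow_dvd_iff_le_factorization Nat.card_pos.ne').1 (by rw [hd]; exact dvd_mul_right _ _)
    have h4 : 3 ^ 2 ∣ (4 : ℕ).factorial := hk4 ▸ (pow_dvd_pow 3 h2).trans h3
    norm_num [Nat.factorial] at h4
  set R := Cfsg.pCore 3 ↥Lmax
  obtain ⟨hRn, hRp⟩ : R.Normal ∧ IsPGroup 3 ↥R := Cfsg.Lib.Components.pCore_normal_and_isPGroup 3
  have hRU : R ≤ (U' : Subgroup ↥Lmax) := by
    have := hRn
    have h1 : IsPGroup 3 ↥(R ⊔ (U' : Subgroup ↥Lmax)) := hRp.to_sup_of_normal_left U'.2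
    exact le_sup_left.trans (U'.3 h1 le_sup_right).le
  have hU'c : Nat.card (U' : Subgroup ↥Lmax) = 9 := by
    rw [hU', Sylow.coe_subtype, Nat.card_congr (Subgroup.subgroupOfEquivOfLe hNL).toEquiv, hU9]
  have hR3 : Nat.card R = 3 := by
    have h9 : Nat.card R ∣ 3 ^ 2 := by rw [show (3 : ℕ) ^ 2 = 9 by norm_num, ← hU'c]; exact Subgroup.card_dvd_of_le hRU
    obtain ⟨i, hi, hR⟩ := (Nat.dvd_prime_pow Nat.prime_three).1 h9
    interval_cases i
    · exact absurd (Subgroup.card_eq_one.1 hR) hcore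
    · simpa using hR
    · exfalso
      have hRe : R = (U' : Subgroup ↥Lmax) := Subgroup.eq_of_le_of_card_ge hRU (by rw [hR, hU'c]; norm_num)
      refine hk1 (U'.card_eq_index_normalizer.trans ?_)
      have hn : Subgroup.normalizer ((U' : Subgroup ↥Lmax) : Set ↥Lmax) = ⊤ := by
        rw [← hRe]; exact Subgroup.normalizer_eq_top_iff.2 hRn
      exact Subgroup.index_eq_one.2 hn
  set ψ : ↥Lmax →* MulAut ↥R := MulAut.conjNormal
  have hA2 : Nat.card (MulAut ↥R) = 2 := by
    have := isCyclic_of_prime_card (p := 3) hR3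
    rw [IsCyclic.card_mulAut, hR3, Nat.totient_prime Nat.prime_three]
  have heven : 2 ∣ Nat.card ψ.ker := by
    have h1 : Nat.card ψ.ker * Nat.card ψ.range = 9 * d := by
      rw [← hd, ← Subgroup.index_ker, mul_comm, Subgroup.index_mul_card]
    have h2 : Nat.card ψ.range ∣ 2 := hA2 ▸ Subgroup.card_subgroup_dvd_card _
    rw [hd4] at h1
    rcases (Nat.dvd_prime Nat.prime_two).1 h2 with e | e <;> rw [e] at h1 <;> omega
  have : Fact (Nat.Prime 2) := ⟨Nat.prime_two⟩
  obtain ⟨y, hy⟩ := exists_prime_orderOf_dvd_card' (G := ψ.ker) 2 heven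
  obtain ⟨r, hr⟩ := exists_prime_orderOf_dvd_card' (G := R) 3 (by rw [hR3])
  have hcomm : Commute (y : ↥Lmax) (r : ↥Lmax) := by
    have h1 := congrArg (fun α : MulAut ↥R => (α r : ↥Lmax)) (show ψ (y : ↥Lmax) = 1 from y.2)
    simp [ψ, MulAut.conjNormal_apply] at h1
    exact mul_inv_eq_iff_eq_mul.1 h1
  have ho : orderOf ((y : ↥Lmax) * (r : ↥Lmax)) = 6 := by
    rw [hcomm.orderOf_mul_eq_mul_orderOf_of_coprime] <;>
      rw [Subgroup.orderOf_coe, Subgroup.orderOf_coe, hy, hr]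
    norm_num
  apply no_six hF (e (((y : ↥Lmax) * (r : ↥Lmax) : ↥Lmax) : K))
  rw [MulEquiv.orderOf_eq, Subgroup.orderOf_coe, ho]

end Cfsg.Lib.PMinLie.PSLEight
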