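import Cfsg.Agent.PMinLie.Basic
import Mathlib.GroupTheory.Sylow

/-!
# Small groups: overgroups of a Sylow subgroup under the automorphisms fixing it
-/

set_option autoImplicit false

namespace Cfsg.Lib.PMinLie

universe u v

variable {K : Type v} [Group K] [Finite K] {p : ℕ} {U Lmax La Lb : Subgroup K} {A : Subgroup (MulAut K)}

theorem map_eq_of_le (β : K ≃* K) {L L' : Subgroup K} (h : L.map β.toMonoidHom ≤ L')
    (hc : Nat.card L' ≤ Nat.card L) : L.map β.toMonoidHom = L' :=
  Subgroup.eq_of_le_of_card_ge h (hc.trans (le_of_eq (Subgroup.card_map_of_injective β.injective).symm))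

/-- Two invariant overgroups generating the group contradict the hypotheses. -/
theorem false_of_join (c : Ctx p U A Lmax) (hUa : U ≤ La) (hUb : U ≤ Lb) (ha : La ≠ ⊤) (hb : Lb ≠ ⊤)
    (hia : ∀ α ∈ A, La.map (α : K ≃* K).toMonoidHom = La) (hib : ∀ α ∈ A, Lb.map (α : K ≃* K).toMonoidHom = Lb)
    (hj : La ⊔ Lb = ⊤) : False :=
  c.ne_top (top_unique (hj ▸ sup_le (c.greatest La hUa ha hia) (c.greatest Lb hUb hb hib)))

/-- When every proper overgroup lies in one of two, they are exchanged or both fixed. -/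
theorem two_maximal (c : Ctx p U A Lmax) (hUa : U ≤ La) (hUb : U ≤ Lb) (ha : La ≠ ⊤) (hb : Lb ≠ ⊤)
    (hab : ¬ La ≤ Lb) (hba : ¬ Lb ≤ La) (cover : ∀ L, U ≤ L → L ≠ ⊤ → L ≤ La ∨ L ≤ Lb) :
    ∃ α ∈ A, La.map (α : K ≃* K).toMonoidHom = Lb ∧ Lmax ≤ La ⊓ Lb := by
  have hU : ∀ α ∈ A, ∀ L, U ≤ L → U ≤ L.map (α : K ≃* K).toMonoidHom := fun α hα L h =>
    (c.fix α hα).symm.le.trans (Subgroup.map_mono h)
  have htop : ∀ (α : MulAut K) (L : Subgroup K), L ≠ ⊤ → L.map (α : K ≃* K).toMonoidHom ≠ ⊤ := fun α L h e =>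
    h (Subgroup.map_injective (f := (α : K ≃* K).toMonoidHom) α.injective
      (e.trans (Subgroup.map_top_of_surjective _ α.surjective).symm))
  have hinj : ∀ (α : MulAut K) (L L' : Subgroup K),
      L.map (α : K ≃* K).toMonoidHom ≤ L'.map (α : K ≃* K).toMonoidHom → L ≤ L' := fun α L L' h =>
    (Subgroup.map_le_map_iff_of_injective α.injective).1 h
  have hca : ∀ α ∈ A, La.map (α : K ≃* K).toMonoidHom = La ∨ La.map (α : K ≃* K).toMonoidHom = Lb := by
    intro α hα
    rcases cover _ (hU α hα La hUa) (htop α La ha) with h | h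
    · exact Or.inl (map_eq_of_le _ h le_rfl)
    · right
      rcases cover _ (hU α hα Lb hUb) (htop α Lb hb) with h' | h'
      · refine map_eq_of_le _ h ?_
        exact le_of_eq_of_le (Subgroup.card_map_of_injective α.injective).symm (Subgroup.card_le_of_le h')
      · exact absurd (hinj α La Lb ((map_eq_of_le _ h' le_rfl).symm ▸ h)) hab
  have hcb : ∀ α ∈ A, La.map (α : K ≃* K).toMonoidHom = La → Lb.map (α : K ≃* K).toMonoidHom = Lb := by
    intro α hα e
    rcases cover _ (hU α hα Lb hUb) (htop α Lb hb) with h | h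
    · exact absurd (hinj α Lb La (e.symm ▸ h)) hba
    · exact map_eq_of_le _ h le_rfl
  obtain ⟨α, hα, e⟩ : ∃ α ∈ A, La.map (α : K ≃* K).toMonoidHom = Lb := by
    by_contra hc
    push Not at hc
    have hia : ∀ α ∈ A, La.map (α : K ≃* K).toMonoidHom = La := fun α hα =>
      (hca α hα).resolve_right (hc α hα)
    have h1 := c.greatest La hUa ha hia
    have h2 := c.greatest Lb hUb hb fun α hα => hcb α hα (hia α hα)
    rcases cover Lmax (hUa.trans h1) c.ne_top with h | h
    · exact hba (h2.trans h)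
    · exact hab (h1.trans h)
  have e' : Lb.map (α : K ≃* K).toMonoidHom = La := by
    rcases cover _ (hU α hα Lb hUb) (htop α Lb hb) with h | h
    · exact map_eq_of_le _ h (le_of_eq_of_le rfl (by rw [← e, Subgroup.card_map_of_injective α.injective]))
    · exact absurd (hinj α Lb La (h.trans e.symm.le)) hba
  refine ⟨α, hα, e, ?_⟩
  have hUN : U ≤ Lmax := Subgroup.le_normalizer.trans c.normalizer_le
  rcases cover Lmax hUN c.ne_top with h | h
  · exact le_inf h (((c.inv α hα).symm.le.trans (Subgroup.map_mono h)).trans e.le)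
  · exact le_inf (((c.inv α hα).symm.le.trans (Subgroup.map_mono h)).trans e'.le) h

/-- A simple group that is not a `p`-group has no normal Sylow `p`-subgroup. -/
theorem normalizer_ne_top_of_simple [IsSimpleGroup K] [Fact p.Prime] (hd : p ∣ Nat.card K) {r : ℕ}
    (hr : r.Prime) (hrp : r ≠ p) (hrd : r ∣ Nat.card K) (U : Sylow p K) :
    Subgroup.normalizer ((U : Subgroup K) : Set K) ≠ ⊤ := by
  intro h
  rcases (Subgroup.normalizer_eq_top_iff.1 h).eq_bot_or_eq_top with e | e
  · exact U.ne_bot_of_dvd_card hd e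
  · obtain ⟨k, hk⟩ := IsPGroup.iff_card.1 U.2
    rw [e, Subgroup.card_top] at hk
    exact hrp ((Nat.prime_dvd_prime_iff_eq hr Fact.out).1 (hr.dvd_of_dvd_pow (hk ▸ hrd)))

/-- An isomorphism taking a given Sylow subgroup to another. -/
theorem exists_sylow_equiv {G : Type u} [Group G] [Finite G] [Fact p.Prime] (e : K ≃* G) (U : Sylow p K)
    {V : Subgroup G} (hV : Nat.card V = p ^ (Nat.card G).factorization p) :
    ∃ φ : K ≃* G, (U : Subgroup K).map φ.toMonoidHom = V := by
  let W : Sylow p G := Sylow.ofCard V hV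
  have hc : Nat.card ((U : Subgroup K).map e.toMonoidHom) = p ^ (Nat.card G).factorization p := by
    rw [Subgroup.card_map_of_injective (f := e.toMonoidHom) e.injective, U.card_eq_multiplicity,
      Nat.card_congr e.toEquiv]
  let W' : Sylow p G := Sylow.ofCard _ hc
  obtain ⟨g, hg⟩ := MulAction.exists_smul_eq G W' W
  refine ⟨e.trans (MulAut.conj g), ?_⟩
  have h1 : ((g • W' : Sylow p G) : Subgroup G) = V := by rw [hg]; exact Sylow.coe_ofCard V hV
  rw [← h1, Sylow.coe_subgroup_smul, Sylow.coe_ofCard, Subgroup.pointwise_smul_def]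
  show _ = ((U : Subgroup K).map e.toMonoidHom).map (MulAut.conj g).toMonoidHom
  rw [Subgroup.map_map]
  rfl

/-- Two maximal overgroups of different orders forbid the hypotheses. -/
theorem goal_of_two_maximal [IsSimpleGroup K] [Fact p.Prime] {G : Type u} [Group G] [Finite G] (e : K ≃* G)
    (V Pa Pb : Subgroup G) (hV : Nat.card V = p ^ (Nat.card G).factorization p) (hV1 : V ≠ ⊥) (hVa : V ≤ Pa)
    (hVb : V ≤ Pb) (hab : ¬ Pa ≤ Pb) (hba : ¬ Pb ≤ Pa)
    (cover : ∀ M, V ≤ M → M ≠ ⊤ → M ≤ Pa ∨ M ≤ Pb) (hcard : Nat.card Pa ≠ Nat.card Pb) : Goal p K := by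
  refine ⟨fun UK => ?_, fun UK A Lmax c => ?_⟩
  · obtain ⟨φ, hφ⟩ := exists_sylow_equiv e UK hV
    intro hn
    rcases (Subgroup.normalizer_eq_top_iff.1 hn).eq_bot_or_eq_top with h | h
    · exact hV1 (by rw [← hφ, h, Subgroup.map_bot])
    · rw [h, Subgroup.map_top_of_surjective _ φ.surjective] at hφ
      exact hab (le_top.trans (hφ.le.trans hVb))
  exfalso
  obtain ⟨φ, hφ⟩ := exists_sylow_equiv e UK hV
  have hca : ∀ R : Subgroup G, Nat.card ↥(R.comap φ.toMonoidHom) = Nat.card ↥R := fun R => by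
    rw [← Subgroup.card_map_of_injective (f := φ.toMonoidHom) φ.injective,
      Subgroup.map_comap_eq_self_of_surjective φ.surjective]
  have hmono : ∀ {R R' : Subgroup G}, R.comap φ.toMonoidHom ≤ R'.comap φ.toMonoidHom → R ≤ R' := fun h =>
    (Subgroup.comap_le_comap_of_surjective φ.surjective).1 h
  obtain ⟨α, -, hα, -⟩ := two_maximal c (La := Pa.comap φ.toMonoidHom) (Lb := Pb.comap φ.toMonoidHom)
    (Subgroup.map_le_iff_le_comap.1 (hφ.le.trans hVa)) (Subgroup.map_le_iff_le_comap.1 (hφ.le.trans hVb))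
    (fun h => hba (hmono (h.symm ▸ le_top))) (fun h => hab (hmono (h.symm ▸ le_top)))
    (fun h => hab (hmono h)) (fun h => hba (hmono h)) fun M hM hMne => by
      rcases cover (M.map φ.toMonoidHom) (hφ.symm.le.trans (Subgroup.map_mono hM))
        (fun h => hMne (Subgroup.map_injective φ.injective
          (h.trans (Subgroup.map_top_of_surjective _ φ.surjective).symm))) with h | h
      · exact Or.inl (Subgroup.map_le_iff_le_comap.1 h)
      · exact Or.inr (Subgroup.map_le_iff_le_comap.1 h)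
  have h5 := congrArg (fun R : Subgroup K => Nat.card ↥R) hα
  simp only [Subgroup.card_map_of_injective (f := (α : K ≃* K).toMonoidHom) α.injective, hca] at h5
  exact hcard h5

end Cfsg.Lib.PMinLie
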