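import Cfsg.Agent.PMinLie.Twisted
import Cfsg.Agent.PMinLie.SmallBase
import Cfsg.Agent.Known.POver.Tits

/-!
# The Tits group is not `2`-minimal
-/

set_option autoImplicit false
set_option linter.dupNamespace false
set_option maxRecDepth 20000

namespace Cfsg.Lib.PMinLie

open Cfsg.Lib.BN Cfsg.Lib.Steinberg Cfsg.Lib.Known.POver Cfsg.Lie Cfsg.Lib.Chev Cfsg.Lib.Chev.ReeF

universe u v

/-- The order of a minimal parabolic subgroup. -/
theorem card_parabolic_single {H : Type u} [Group H] [Finite H] {P : Cfsg.BNPair H} {U : Subgroup H} {p : ℕ}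
    (S : Split P U p) {s : H} (hs : s ∈ P.S) :
    Nat.card ↥(P.parabolic {s}) = Nat.card ↥P.B * ((rad P U s).relIndex U + 1) := by
  classical
  set Ps := P.parabolic {s}
  have hBP : P.B ≤ Ps := le_sup_left
  have hsP : s ∈ Ps := smem_parabolic rfl
  have hmem : ∀ u ∈ U, u * s ∈ Ps := fun u hu => mul_mem (hBP (S.le hu)) hsP
  let φ : Option (↥U ⧸ (rad P U s).subgroupOf U) → ↥Ps ⧸ P.B.subgroupOf Ps := fun o =>
    match o with
    | none => ((1 : ↥Ps) : ↥Ps ⧸ P.B.subgroupOf Ps)
    | some c => ((⟨(c.out : H) * s, hmem _ c.out.2⟩ : ↥Ps) : ↥Ps ⧸ P.B.subgroupOf Ps)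
  have hφ : Function.Bijective φ := by
    have hne : ∀ u ∈ U, u * s ∉ P.B := fun u hu h =>
      not_mem_B hs (by simpa using mul_mem (inv_mem (S.le hu)) h)
    constructor
    · rintro (_ | c) (_ | c') e
      · rfl
      · have h := QuotientGroup.eq.1 e
        rw [inv_one, one_mul] at h
        exact absurd (Subgroup.mem_subgroupOf.1 h) (hne _ c'.out.2)
      · have h := QuotientGroup.eq.1 e.symm
        rw [inv_one, one_mul] at h
        exact absurd (Subgroup.mem_subgroupOf.1 h) (hne _ c.out.2)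
      · have h := Subgroup.mem_subgroupOf.1 (QuotientGroup.eq.1 e)
        rw [Subgroup.coe_mul, Subgroup.coe_inv] at h
        rw [show c = c' by
          rw [← c.out_eq', ← c'.out_eq']
          refine QuotientGroup.eq.2 (Subgroup.mem_subgroupOf.2 (mem_rad.2 ⟨(c.out⁻¹ * c'.out).2, ?_⟩))
          convert h using 1
          simp only [Subgroup.coe_mul, Subgroup.coe_inv]
          group]
    · intro y
      obtain ⟨y, rfl⟩ := QuotientGroup.mk_surjective y
      rcases mem_parabolic_single hs y.2 with hy | hy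
      · exact ⟨none, QuotientGroup.eq.2 (Subgroup.mem_subgroupOf.2 (by simpa using hy))⟩
      · obtain ⟨a, ha, e⟩ := S.cell_decomp (P.subset hs) hy
        rw [mk_eq_mk] at e
        refine ⟨some ((⟨a, ha⟩ : ↥U) : ↥U ⧸ (rad P U s).subgroupOf U), QuotientGroup.eq.2 ?_⟩
        obtain ⟨r, hr⟩ := QuotientGroup.mk_out_eq_mul ((rad P U s).subgroupOf U) ⟨a, ha⟩
        rw [Subgroup.mem_subgroupOf, Subgroup.coe_mul, Subgroup.coe_inv]
        simp only [hr, Subgroup.coe_mul]
        have h1 := (mem_rad.1 (Subgroup.mem_subgroupOf.1 r.2)).2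
        have h2 := mul_mem (inv_mem h1) (inv_mem e)
        convert h2 using 1
        group
  have h := Nat.card_eq_of_bijective φ hφ
  rw [Finite.card_option] at h
  rw [← Subgroup.card_mul_index (P.B.subgroupOf Ps), Nat.card_congr (Subgroup.subgroupOfEquivOfLe hBP).toEquiv,
    Subgroup.index, ← h]
  rfl

set_option maxHeartbeats 400000 in
theorem tits_model (X : RF (ZMod 2)) {K : Type v} [Group K] [Finite K] [IsSimpleGroup K]
    (e : K ≃* ↥(commutator ↥X.G1)) : Goal 2 K := by
  classical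
  have : Fact (Nat.Prime 2) := ⟨Nat.prime_two⟩
  have hfin : Finite ↥X.G1 := Subtype.finite
  set L := commutator ↥X.G1 with hLdef
  have hL : L.Normal := by rw [hLdef, commutator_def]; infer_instance
  have hsimp := (TitsComm.simple_commutator X).1
  have hidx2 : L.index = 2 := TitsComm.index_commutator X
  obtain ⟨P, h1, h2, h3⟩ := X.exists_BN
  set U := (chevF4.posUnipotent (ZMod 2)).subgroupOf X.G1 with hUdef
  have S : Split P U 2 := Cfsg.Lib.Known.SylFix.split_sub 2 SF P h1 h2 fun b hb => by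
    obtain ⟨hbB, hbG⟩ := Subgroup.mem_inf.1 hb
    obtain ⟨u, hu, d, hd, e⟩ := X.borel_fixed hbB (by
      have := X.G1_le hbG
      exact this.2)
    exact ⟨u, hu, d, hd.1, e⟩
  have hBig := Tits.big X h1 h2 h3
  obtain ⟨wo, hwL, hwU, -⟩ := Tits.exists_odd X
  have hwU' : wo ∈ U := Subgroup.mem_subgroupOf.2 hwU
  set w : ℕ → ↥X.G1 := fun a => ⟨X.nk a, X.nk_mem a⟩
  have hw : ∀ a ∈ [8, 9], w a ∈ P.S := fun a ha => by rw [h3]; exact ⟨a, ha, rfl⟩
  have hrel : ∀ a ∈ [8, 9], (rad P U (w a)).relIndex U = 2 ^ (OPk a).length := fun a ha => by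
    have hle : rad P U (w a) ≤ U := fun x hx => (mem_rad.1 hx).1
    have h4 := card_2F4 X P h1 h3 a ha
    rw [← Subgroup.card_mul_index ((rad P U (w a)).subgroupOf U),
      Nat.card_congr (Subgroup.subgroupOfEquivOfLe hle).toEquiv, ZMod.card] at h4
    exact Nat.eq_of_mul_eq_mul_left Nat.card_pos h4
  have hl8 : (OPk 8).length = 1 := by rw [(OPk_ok 8 (by decide)).2]; decide
  have hl9 : (OPk 9).length = 2 := by rw [(OPk_ok 9 (by decide)).2]; decide
  have h8 : Nat.card ↥(P.parabolic {w 8}) = Nat.card ↥P.B * 3 := by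
    rw [card_parabolic_single S (hw 8 (by simp)), hrel 8 (by simp), hl8, pow_one]
  have h9 : Nat.card ↥(P.parabolic {w 9}) = Nat.card ↥P.B * 5 := by
    rw [card_parabolic_single S (hw 9 (by simp)), hrel 9 (by simp), hl9]; norm_num
  have hne : w 8 ≠ w 9 := fun h => by rw [← h, h8] at h9; exact absurd h9 (by have := Nat.card_pos (α := ↥P.B); omega)
  have half : ∀ R : Subgroup ↥X.G1, U ≤ R → 2 * Nat.card ↥(R.subgroupOf L) = Nat.card ↥R := by
    intro R hR
    have h4 : L.relIndex R = 2 := by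
      rcases (Nat.dvd_prime Nat.prime_two).1 (hidx2 ▸ Subgroup.relIndex_dvd_index_of_normal L R) with h | h
      · exact absurd ((Subgroup.relIndex_eq_one.1 h) (hR hwU')) hwL
      · exact h
    have h5 : Nat.card ↥(R.subgroupOf L) = Nat.card ↥(L.subgroupOf R) := by
      rw [← Subgroup.inf_subgroupOf_right R L, ← Subgroup.inf_subgroupOf_right L R,
        Nat.card_congr (Subgroup.subgroupOfEquivOfLe inf_le_right).toEquiv,
        Nat.card_congr (Subgroup.subgroupOfEquivOfLe inf_le_right).toEquiv, inf_comm]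
    rw [h5, ← Subgroup.card_mul_index (L.subgroupOf R)]
    rw [show (L.subgroupOf R).index = 2 from h4, mul_comm]
  have hUP : ∀ a, U ≤ P.parabolic {w a} := fun a => le_trans (fun x hx => S.le hx) le_sup_left
  -- the Sylow subgroup
  have hidx : ¬ 2 ∣ U.index := by
    intro hd
    have h4 := Subgroup.card_mul_index U
    have h5 : 2 ^ ((Nat.card ↥X.G1).factorization 2 + 1) ∣ Nat.card ↥X.G1 := by
      rw [pow_succ, factorization_eq S]
      conv_rhs => rw [← h4]
      exact Nat.mul_dvd_mul_left _ hd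
    have := (Nat.prime_two.pow_dvd_iff_le_factorization Nat.card_pos.ne').1 h5
    omega
  have hidxL : ¬ 2 ∣ (U.subgroupOf L).index := by
    intro hd
    have h4 : U.relIndex L ∣ U.index := by
      have h5 : (U.subgroupOf L).index * 1 = U.index := by
        have c1 := half ⊤ le_top
        have c2 := half U le_rfl
        have c3 := Subgroup.card_mul_index U
        have c4 := Subgroup.card_mul_index (U.subgroupOf L)
        rw [Subgroup.top_subgroupOf, Subgroup.card_top, Subgroup.card_top] at c1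
        refine Nat.eq_of_mul_eq_mul_left (Nat.card_pos (α := ↥U)) ?_
        rw [mul_one, c3, ← c1, ← c4, ← c2]
        ring
      exact ⟨1, h5.symm⟩
    exact hidx (hd.trans h4)
  have hVc : Nat.card ↥(U.subgroupOf L) = 2 ^ (Nat.card ↥L).factorization 2 := by
    have hp : IsPGroup 2 ↥(U.subgroupOf L) := S.isPGroup.comap_of_injective L.subtype L.subtype_injective
    have h4 := (hp.toSylow hidxL).card_eq_multiplicity
    rw [IsPGroup.toSylow_coe] at h4
    exact h4
  have hK : Nat.card K = Nat.card ↥L := Nat.card_congr e.toEquiv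
  -- overgroups
  have cover : ∀ M : Subgroup ↥L, U.subgroupOf L ≤ M → M ≠ ⊤ →
      M ≤ (P.parabolic {w 8}).subgroupOf L ∨ M ≤ (P.parabolic {w 9}).subgroupOf L := by
    intro M hUM hM
    have hUM' : U ⊓ L ≤ M.map L.subtype := fun u hu => ⟨⟨u, hu.2⟩, hUM (Subgroup.mem_subgroupOf.2 hu.1), rfl⟩
    rcases all_or_parabolic S hBig hUM' with hall | ⟨J, hJ, hJne, hle⟩
    · exfalso
      have hN' : Subgroup.normalClosure (U.subgroupOf L : Set ↥L) ≤ M := by
        refine (Subgroup.closure_le _).2 fun y hy => ?_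
        obtain ⟨v, hv, hy'⟩ := Group.mem_conjugatesOfSet_iff.1 hy
        obtain ⟨g, rfl⟩ := isConj_iff.1 hy'
        obtain ⟨k, hk, hkg⟩ := hall (g : ↥X.G1)
        have hkL : k ∈ L := Subgroup.map_subtype_le _ hk
        have h4 : k⁻¹ * g * v * (k⁻¹ * g)⁻¹ ∈ U ⊓ L :=
          ⟨S.normal _ hkg v hv, L.mul_mem (L.mul_mem (L.mul_mem (L.inv_mem hkL) g.2) v.2)
            (L.inv_mem (L.mul_mem (L.inv_mem hkL) g.2))⟩
        have h5 := mul_mem (mul_mem hk (hUM' h4)) (inv_mem hk)
        rw [show k * (k⁻¹ * g * v * (k⁻¹ * g)⁻¹) * k⁻¹ = ((g * v * g⁻¹ : ↥L) : ↥X.G1) by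
          simp only [Subgroup.coe_mul, Subgroup.coe_inv]; group] at h5
        obtain ⟨z, hz, ez⟩ := h5
        exact (Subtype.ext ez : z = g * v * g⁻¹) ▸ hz
      rcases Subgroup.normalClosure_normal.eq_bot_or_eq_top (H := Subgroup.normalClosure (U.subgroupOf L : Set ↥L))
        with h | h
      · obtain ⟨b, hb1, hbb, -, hbU⟩ := Tits.exists_root_invol X (a := 8) (by simp)
        have : (⟨b, Tits.mem_commutator_of_sq X hbb⟩ : ↥L) ∈ Subgroup.normalClosure (U.subgroupOf L : Set ↥L) :=
          Subgroup.subset_normalClosure (Subgroup.mem_subgroupOf.2 (Subgroup.mem_subgroupOf.2 hbU))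
        rw [h, Subgroup.mem_bot] at this
        exact hb1 (congrArg Subtype.val this)
      · exact hM (top_unique (h ▸ hN'))
    · obtain ⟨s, hs, hsJ⟩ : ∃ s ∈ P.S, s ∉ J := by
        by_contra hc
        push Not at hc
        exact hJne (hJ.antisymm hc)
      obtain ⟨a, ha, ea⟩ := h3.le hs
      have hs' : s = w a := Subtype.ext ea
      have hsub : ∀ a b, (∀ c ∈ [8, 9], c = a ∨ c = b) → s = w a → J ⊆ {w b} := fun a b hab e t ht => by
        obtain ⟨c, hc, ec⟩ := h3.le (hJ ht)
        rcases hab c hc with rfl | rfl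
        · exact absurd ((Subtype.ext ec : t = w c).trans e.symm ▸ ht) hsJ
        · exact Subtype.ext ec
      have hpar : ∀ b, J ⊆ {w b} → M ≤ (P.parabolic {w b}).subgroupOf L := fun b hb x hx => by
        rw [Subgroup.mem_subgroupOf]
        exact sup_le_sup_left (Subgroup.closure_mono hb) _ (hle ⟨x, hx, rfl⟩)
      simp only [List.mem_cons, List.not_mem_nil, or_false] at ha
      rcases ha with rfl | rfl
      · exact Or.inr (hpar 9 (hsub 8 9 (by simp) hs'))
      · exact Or.inl (hpar 8 (hsub 9 8 (by simp) hs'))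
  -- transport
  have hVb : U.subgroupOf L ≠ ⊥ := fun h => by
    obtain ⟨b, hb1, hbb, -, hbU⟩ := Tits.exists_root_invol X (a := 8) (by simp)
    have : (⟨b, Tits.mem_commutator_of_sq X hbb⟩ : ↥L) ∈ U.subgroupOf L :=
      Subgroup.mem_subgroupOf.2 (Subgroup.mem_subgroupOf.2 hbU)
    rw [h, Subgroup.mem_bot] at this
    exact hb1 (congrArg Subtype.val this)
  have cBL : 2 * Nat.card ↥(P.B.subgroupOf L) = Nat.card ↥P.B := half _ fun x hx => S.le hx
  have ca := half _ (hUP 8)
  have cb := half _ (hUP 9)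
  have hBpos := Nat.card_pos (α := ↥P.B)
  have hinf : (P.parabolic {w 8}).subgroupOf L ⊓ (P.parabolic {w 9}).subgroupOf L = P.B.subgroupOf L := by
    rw [Subgroup.subgroupOf, Subgroup.subgroupOf, ← Subgroup.comap_inf,
      parabolic_inf (Set.singleton_subset_iff.2 (hw 8 (by simp))) (Set.singleton_subset_iff.2 (hw 9 (by simp))),
      Set.singleton_inter_eq_empty.2 (by simpa using hne), Cfsg.BNPair.parabolic, Subgroup.closure_empty, sup_bot_eq]
    rfl
  have hn1 : ¬ (P.parabolic {w 8}).subgroupOf L ≤ (P.parabolic {w 9}).subgroupOf L := fun h => by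
    rw [← inf_eq_left, hinf] at h
    rw [← h] at ca
    omega
  have hn2 : ¬ (P.parabolic {w 9}).subgroupOf L ≤ (P.parabolic {w 8}).subgroupOf L := fun h => by
    rw [← inf_eq_right, hinf] at h
    rw [← h] at cb
    omega
  have key := @goal_of_two_maximal K _ _ 2 _ _ ↥L (Subgroup.toGroup L) inferInstance e (U.subgroupOf L) ((P.parabolic {w 8}).subgroupOf L)
    ((P.parabolic {w 9}).subgroupOf L)
  have k1 := key hVc
  have k2 := k1 hVb
  have k3 := k2 (Subgroup.comap_mono (hUP 8)) (Subgroup.comap_mono (hUP 9))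
  have k4 := k3 hn1 hn2
  have k5 := k4 cover
  exact k5 (by omega)

theorem goal_tits {K : Type v} [Group K] [Finite K] [IsSimpleGroup K] (h : Cfsg.Lie.IsoTits K) : Goal 2 K := by
  obtain ⟨f⟩ := h
  obtain ⟨X, hX⟩ := Cfsg.Lib.Chev.ReeF.exists_rf (K := ZMod 2) (m := 0) (ZMod.card 2)
  have key : ∀ e, X.e = e → (K ≃* ↥(commutator ↥(Cfsg.Lie.twistedF4 (ZMod 2) e))) → Goal 2 K := by
    intro e he
    subst he
    intro f'
    exact tits_model X (f' : K ≃* ↥(commutator ↥X.G1))
  exact key 1 (by simp [Cfsg.Lib.Chev.ReeF.RF.e, hX]) f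

end Cfsg.Lib.PMinLie
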