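import Cfsg.Agent.PMinLie.Cover
import Cfsg.Agent.Known.POver.Families

/-!
# The twisted groups of rank two: the two root groups differ in order
-/

set_option autoImplicit false

namespace Cfsg.Lib.PMinLie

open Cfsg.Lib.BN Cfsg.Lib.Steinberg Cfsg.Lib.Known.POver Cfsg.Lie Cfsg.Lib.Chev Cfsg.Lib.Known

universe u v

variable {F : Type u} [Field F] [Fintype F] {K : Type v} [Group K] [Finite K] [IsSimpleGroup K]

open Cfsg.Lib.Chev.ReeF in
/-- The root group at a node complements the radical. -/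
theorem card_2F4 (X : RF F) (P : Cfsg.BNPair ↥X.G1)
    (h1 : P.B = (chevF4.borelSubgroup F ⊓ X.G1).subgroupOf X.G1)
    (h3 : P.S = {s : ↥X.G1 | ∃ a ∈ [8, 9], (s : GL chevF4.Idx F) = X.nk a}) (a : ℕ) (haS : a ∈ [8, 9]) :
    Nat.card ↥((chevF4.posUnipotent F).subgroupOf X.G1) =
      Nat.card ↥(rad P ((chevF4.posUnipotent F).subgroupOf X.G1) ⟨X.nk a, X.nk_mem a⟩) *
        Fintype.card F ^ (OPk a).length := by
  have ha : a < 16 := by fin_cases haS <;> norm_num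
  set U := (chevF4.posUnipotent F).subgroupOf X.G1
  set w : ↥X.G1 := ⟨X.nk a, X.nk_mem a⟩
  have hw : w ∈ P.S := by rw [h3]; exact ⟨a, haS, rfl⟩
  have hgood : Good F (OPk a) := card_UL_of_sublist List.filter_sublist (OPk_ok a ha).1
  have hULU : UL F (OPk a) ≤ chevF4.posUnipotent F := by
    rw [← Cfsg.Lib.Chev.ReeF.RF.UPsi_eq ha]
    exact SF.UPsi_le _
  have hT : Nat.card ↥((UL F (OPk a)).subgroupOf X.G1) = Fintype.card F ^ (OPk a).length := by
    rw [← X.card_fix hgood, ← Subgroup.inf_subgroupOf_right,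
      Nat.card_congr (Subgroup.subgroupOfEquivOfLe inf_le_right).toEquiv]
    congr 2
    refine le_antisymm (inf_le_inf_left _ X.G1_le) (le_inf inf_le_left fun x hx => ?_)
    exact (Subgroup.mem_inf.1 (X.U1_eq.ge (⟨hULU hx.1, hx.2⟩ : x ∈ chevF4.posUnipotent F ⊓ X.Gs))).2
  rw [← hT]
  refine card_eq_rad_mul ((UL F (OPk a)).subgroupOf X.G1 : Set ↥X.G1) (fun g hg => hULU hg) (fun u hu => ?_)
    fun g hg g' hg' h => ?_
  · obtain ⟨u', hu'G, g, hg, e, hu'U, hu'c⟩ := X.split ha (Subgroup.mem_inf.2 ⟨hu, u.2⟩)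
    refine ⟨⟨g, hg.2⟩, hg.1, mem_rad.2 ⟨?_, ?_⟩⟩
    · rw [show u * (⟨g, hg.2⟩ : ↥X.G1)⁻¹ = ⟨u', hu'G⟩ from Subtype.ext (by
        rw [Subgroup.coe_mul, Subgroup.coe_inv]
        exact (congrArg (· * g⁻¹) e).trans (mul_inv_cancel_right _ _))]
      exact hu'U
    · rw [show u * (⟨g, hg.2⟩ : ↥X.G1)⁻¹ = ⟨u', hu'G⟩ from Subtype.ext (by
        rw [Subgroup.coe_mul, Subgroup.coe_inv]
        exact (congrArg (· * g⁻¹) e).trans (mul_inv_cancel_right _ _))]
      have h4 : w * ⟨u', hu'G⟩ * w⁻¹ ∈ P.B := by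
        rw [h1, Subgroup.mem_subgroupOf, Subgroup.mem_inf]
        exact ⟨SF.B_le_of hu'c, SetLike.coe_mem _⟩
      have h5 := mul_mem (mul_mem (inv_mem (P.sq_mem _ hw)) h4) (P.sq_mem _ hw)
      convert h5 using 1
      group
  · have h4 := conj_self_mem hw (mem_rad.1 h).2
    rw [h1, Subgroup.mem_subgroupOf, Subgroup.mem_inf, Subgroup.coe_mul, Subgroup.coe_mul, Subgroup.coe_inv] at h4
    have hgg : ((g * g'⁻¹ : ↥X.G1) : GL chevF4.Idx F) ∈ UL F (OPk a) :=
      Subgroup.mem_subgroupOf.1 (mul_mem hg (inv_mem hg'))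
    have h5 : X.nk a * ((g * g'⁻¹ : ↥X.G1) : GL chevF4.Idx F) * (X.nk a)⁻¹ ∈
        chevF4.borelSubgroup F ⊓ chevF4.negUnipotent F :=
      Subgroup.mem_inf.2 ⟨h4.1, SF.conj_Neg (X.nk_act a) (by rw [Cfsg.Lib.Chev.ReeF.RF.UPsi_eq ha]; exact hgg)⟩
    rw [SF.B_inf_V okNeg_F4, Subgroup.mem_bot, mul_inv_eq_one, mul_eq_left] at h5
    exact mul_inv_eq_one.1 (Subtype.ext h5)

theorem goal_2F4 {m : ℕ} (hK : Fintype.card F = 2 ^ (2 * m + 1)) (e : K ≃* ↥(twistedF4 F (2 ^ m))) :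
    Goal 2 K := by
  have : Fact (Nat.Prime 2) := ⟨Nat.prime_two⟩
  have : CharP F 2 := charP_of_card_eq_prime_pow (f := 2 * m + 1) hK
  obtain ⟨X, rfl⟩ := Cfsg.Lib.Chev.ReeF.exists_rf hK
  have e' : K ≃* ↥X.G1 := e
  obtain ⟨P, h1, h2, h3⟩ := X.exists_BN
  set U := (chevF4.posUnipotent F).subgroupOf X.G1
  have hS : Split P U 2 := SylFix.split_sub 2 Cfsg.Lib.Chev.ReeF.SF P h1 h2 fun b hb => by
    obtain ⟨hbB, hbG⟩ := Subgroup.mem_inf.1 hb
    obtain ⟨u, hu, d, hd, e⟩ := X.borel_fixed hbB (by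
      have := X.G1_le hbG
      exact this.2)
    exact ⟨u, hu, d, hd.1, e⟩
  set w : ℕ → ↥X.G1 := fun a => ⟨X.nk a, X.nk_mem a⟩
  have hw : ∀ a ∈ [8, 9], w a ∈ P.S := fun a ha => by rw [h3]; exact ⟨a, ha, rfl⟩
  have key := card_2F4 X P h1 h3
  have hlen : (Cfsg.Lib.Chev.ReeF.OPk 8).length = 1 ∧ (Cfsg.Lib.Chev.ReeF.OPk 9).length = 2 := by
    rw [(Cfsg.Lib.Chev.ReeF.OPk_ok 8 (by decide)).2, (Cfsg.Lib.Chev.ReeF.OPk_ok 9 (by decide)).2]
    decide
  have hcne : Nat.card ↥(rad P U (w 8)) ≠ Nat.card ↥(rad P U (w 9)) := by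
    intro h
    have e1 := key 8 (by simp)
    have e2 := key 9 (by simp)
    rw [hlen.1, pow_one] at e1
    rw [hlen.2, ← h, e1] at e2
    have hq : 1 < Fintype.card F := Fintype.one_lt_card
    have := Nat.eq_of_mul_eq_mul_left Nat.card_pos e2
    rw [pow_two] at this
    nlinarith
  have hne : w 8 ≠ w 9 := fun h => hcne (by rw [h])
  have hk : (MonoidHom.id ↥X.G1).ker ≤ P.B := by rw [MonoidHom.ker_id]; exact bot_le
  refine goal_of_cover hS (f := MonoidHom.id ↥X.G1) Function.surjective_id hk e' (fun _ => ?_)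
    (Kind.two _ _ (hw 8 (by simp)) (hw 9 (by simp)) hne fun _ hsw => absurd hsw ?_)
  · rw [MonoidHom.ker_id]; exact radical_2F4 X P h1 h3
  · exact not_swaps_of_card hS (push_surjective Function.surjective_id e') ((push_ker e').le.trans hk)
      (hw 8 (by simp)) (hw 9 (by simp)) hcne

theorem exists_pow_ne {q : ℕ} (hq : 1 < q) (hK : Fintype.card F = q ^ 3) : ∃ t : F, t ^ q ≠ t := by
  classical
  by_contra hc
  push Not at hc
  obtain ⟨g, hg⟩ := IsCyclic.exists_generator (α := Fˣ)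
  have ho : orderOf g = q ^ 3 - 1 := by
    rw [orderOf_eq_card_of_forall_mem_zpowers hg, Nat.card_units, Nat.card_eq_fintype_card, hK]
  have h1 : g ^ q = g := Units.ext (by simpa using hc (g : F))
  have h2 : g ^ (q - 1) = 1 := by
    have : g ^ (q - 1) * g = 1 * g := by rw [← pow_succ, Nat.sub_add_cancel hq.le, one_mul, h1]
    exact mul_right_cancel this
  have h3 := Nat.le_of_dvd (by omega) (ho ▸ orderOf_dvd_of_pow_eq_one h2)
  have : q * 2 ≤ q ^ 3 := by
    rw [pow_succ, pow_two]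
    exact le_trans (Nat.mul_le_mul_left q hq) (Nat.le_mul_of_pos_right _ (by omega))
  omega

set_option maxHeartbeats 1600000 in
theorem goal_twD4 {p : ℕ} [Fact p.Prime] [CharP F p] {q : ℕ} (hq : IsPrimePow q) (hK : Fintype.card F = q ^ 3)
    (e : K ≃* ↥(twistedD4 F q)) : Goal p K := by
  classical
  obtain ⟨X, rfl⟩ := Cfsg.Lib.Chev.D4.exists_tw hq hK
  obtain ⟨P, h1, h2, h3⟩ := X.exists_bnPair (Cfsg.Lib.Chev.D4.relOK X)
  rw [← Cfsg.Lib.Chev.D4.G1_eq X] at e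
  rw [← X.borel_inf_G1 (Cfsg.Lib.Chev.D4.relOK X)] at h1
  rw [← X.mono_inf_G1 (Cfsg.Lib.Chev.D4.relOK X)] at h2
  set U := (chevD4.posUnipotent F).subgroupOf X.G1
  have hS : Split P U p := SylFix.split_sub p X.S P h1 h2 fun b hb => by
    rw [X.borel_inf_G1 (Cfsg.Lib.Chev.D4.relOK X)] at hb
    obtain ⟨u, hu, t, ht, e⟩ := X.B1_decomp hb
    exact ⟨u, hu, t, X.T1_le_diag ht, e⟩
  have hO : D4.tw.nO = 2 := by decide +kernel
  have hs1 : ∀ a, a < D4.tw.nO → ∀ i ∈ X.orbF a, hgt chevD4 D4.htTab (D4.cert.sr i.val) = 1 := fun a ha i hi => by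
    have := ((X.lev_spec (X.orP_mem_lev ha)).1 (D4.cert.sr i.val) (by
      rw [Tw.orP, kmap_eq]; exact List.mem_map.2 ⟨i.val, (X.mem_orbF ha).1 hi, rfl⟩)).2
    simpa using this
  set w : ∀ a, a < D4.tw.nO → ↥X.G1 := fun a ha => ⟨X.nJ a, X.nJ_mem_G1 ha⟩
  have hw : ∀ a ha, w a ha ∈ P.S := fun a ha => by rw [h3]; exact ⟨a, ha, rfl⟩
  let T : ℕ → Set ↥X.G1 := fun a => {g | ∃ v, X.Compat v ∧ (g : GL chevD4.Idx F) = X.gP a v}
  have key : ∀ a (ha : a < D4.tw.nO), Nat.card ↥U = Nat.card ↥(rad P U (w a ha)) * Nat.card ↥(T a) := by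
    intro a ha
    refine card_eq_rad_mul (T a) ?_ (fun u hu => ?_) ?_
    · rintro g ⟨v, hv, e⟩
      show (g : GL chevD4.Idx F) ∈ chevD4.posUnipotent F
      rw [e]; exact X.gP_mem_U v
    · obtain ⟨v, hv, hr⟩ := X.U1_split ha (Subgroup.mem_inf.2 ⟨hu, u.2⟩)
      refine ⟨⟨X.gP a v, X.gP_mem_G1 ha hv⟩, ⟨v, hv, rfl⟩, mem_rad.2 ⟨?_, ?_⟩⟩
      · show (u : GL chevD4.Idx F) * (X.gP a v)⁻¹ ∈ chevD4.posUnipotent F
        exact mul_mem hu (inv_mem (X.gP_mem_U v))
      · have h4 : w a ha * (u * (⟨X.gP a v, X.gP_mem_G1 ha hv⟩ : ↥X.G1)⁻¹) * (w a ha)⁻¹ ∈ P.B := by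
          rw [h1, Subgroup.mem_subgroupOf, Subgroup.mem_inf]
          exact ⟨X.S.B_le_of hr, SetLike.coe_mem _⟩
        have h5 := mul_mem (mul_mem (inv_mem (P.sq_mem _ (hw a ha))) h4) (P.sq_mem _ (hw a ha))
        convert h5 using 1
        group
    · rintro g ⟨v, hv, eg⟩ g' ⟨v', hv', eg'⟩ h
      have h4 := conj_self_mem (hw a ha) (mem_rad.1 h).2
      rw [h1, Subgroup.mem_subgroupOf, Subgroup.mem_inf] at h4
      have h5 : X.nJ a * (X.gP a v * (X.gP a v')⁻¹) * (X.nJ a)⁻¹ ∈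
          chevD4.borelSubgroup F ⊓ chevD4.negUnipotent F := by
        refine Subgroup.mem_inf.2 ⟨?_, ?_⟩
        · rw [← eg, ← eg']; exact h4.1
        · rw [show X.nJ a * (X.gP a v * (X.gP a v')⁻¹) * (X.nJ a)⁻¹ =
            (X.nJ a * X.gP a v * (X.nJ a)⁻¹) * (X.nJ a * X.gP a v' * (X.nJ a)⁻¹)⁻¹ by group,
            X.nJ_conj_gP ha, X.nJ_conj_gP ha]
          exact mul_mem (X.gN_mem_V _) (inv_mem (X.gN_mem_V _))
      rw [X.S.B_inf_V X.hN, Subgroup.mem_bot, mul_inv_eq_one, mul_eq_left, mul_inv_eq_one] at h5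
      exact Subtype.ext (eg.trans (h5.trans eg'.symm))
  have h0 : D4.tw.orbAt 0 = [0, 2, 3] := by decide +kernel
  have h01 : D4.tw.orbAt 1 = [1] := by decide +kernel
  have hfix : Nat.card ↥(T 1) < Fintype.card F := by
    obtain ⟨t0, ht0⟩ := exists_pow_ne X.hq hK
    let F0 := {t : F // X.f t = t}
    have hle : T 1 ⊆ Set.range fun t : F0 => (if h : X.S.ok.xG (D4.cert.sr 1) t.1 ∈ X.G1
        then (⟨_, h⟩ : ↥X.G1) else 1) := by
      rintro g ⟨v, hv, eg⟩
      have hi : (⟨1, by decide +kernel⟩ : Fin chevD4.rank) ∈ X.orbF 1 :=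
        (X.mem_orbF (by omega)).2 (by rw [h01]; simp)
      have hpi : X.piF ⟨1, by decide +kernel⟩ = ⟨1, by decide +kernel⟩ := Fin.ext (by
        show D4.tw.piAt 1 = 1
        decide +kernel)
      have hf : X.f (v ⟨1, by decide +kernel⟩) = v ⟨1, by decide +kernel⟩ := by
        rw [hv ⟨1, by decide +kernel⟩, hpi]
      have horb : X.orbF 1 = [⟨1, by decide +kernel⟩] := by
        have := X.orbF_val (a := 1) (by omega)
        rw [h01] at this
        match X.orbF 1, this with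
        | [], hx => simp at hx
        | [x], hx => simp only [List.map_cons, List.map_nil, List.cons.injEq] at hx; simp [Fin.ext_iff, hx.1]
        | x :: y :: l, hx => simp at hx
      have e2 : (g : GL chevD4.Idx F) = X.S.ok.xG (D4.cert.sr 1) (v ⟨1, by decide +kernel⟩) := by
        rw [eg, X.gP_eq, horb]; simp
      refine ⟨⟨_, hf⟩, ?_⟩
      simp only
      rw [dif_pos (e2 ▸ g.2)]
      exact Subtype.ext e2.symm
    calc Nat.card ↥(T 1) ≤ Nat.card ↥(Set.range fun t : F0 => (if h : X.S.ok.xG (D4.cert.sr 1) t.1 ∈ X.G1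
          then (⟨_, h⟩ : ↥X.G1) else 1)) := Nat.card_mono (Set.toFinite _) hle
      _ ≤ Nat.card F0 := Finite.card_range_le _
      _ < Fintype.card F := by
        rw [Nat.card_eq_fintype_card]
        exact Fintype.card_subtype_lt (p := fun t => X.f t = t) (x := t0) (by rw [X.hfq]; exact ht0)
  have hbig : Fintype.card F ≤ Nat.card ↥(T 0) := by
    have h4 : chevD4.rank = 4 := by decide +kernel
    have hr3 : ∀ t : F, ((t ^ X.q) ^ X.q) ^ X.q = t := fun t => by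
      rw [← pow_mul, ← pow_mul, show X.q * (X.q * X.q) = Fintype.card F by rw [hK]; ring]
      exact FiniteField.pow_card t
    let V : F → Fin chevD4.rank → F := fun t i =>
      if i.val = 0 then t else if i.val = 2 then t ^ X.q else if i.val = 3 then (t ^ X.q) ^ X.q else 0
    have hV : ∀ t, X.Compat (V t) := fun t i => by
      have hpi : (X.piF i).val = D4.tw.piAt i.val := rfl
      have hp : D4.tw.piAt 0 = 2 ∧ D4.tw.piAt 1 = 1 ∧ D4.tw.piAt 2 = 3 ∧ D4.tw.piAt 3 = 0 := by decide +kernel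
      rw [X.hfq]
      simp only [V, hpi]
      rcases (show i.val = 0 ∨ i.val = 1 ∨ i.val = 2 ∨ i.val = 3 by have := i.isLt; omega) with e | e | e | e <;>
        rw [e] <;> simp [hp, hr3, zero_pow (show X.q ≠ 0 by have := X.hq; omega)]
    have h00 : (⟨0, by omega⟩ : Fin chevD4.rank) ∈ X.orbF 0 := (X.mem_orbF (by omega)).2 (by rw [h0]; simp)
    rw [← Nat.card_eq_fintype_card]
    refine Nat.card_le_card_of_injective
      (fun t => (⟨⟨X.gP 0 (V t), X.gP_mem_G1 (by omega) (hV t)⟩, V t, hV t, rfl⟩ : ↥(T 0))) fun t t' e => ?_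
    have e1 : X.gP 0 (V t) = X.gP 0 (V t') := congrArg (fun x : ↥(T 0) => ((x.1 : GL chevD4.Idx F))) e
    have hlt : ∀ i : Fin chevD4.rank, D4.cert.sr i.val < chevD4.nroots := fun i => X.S.ok.sr_lt i.isLt
    have hc : ∀ t, X.S.coef ⟨_, hlt ⟨0, by omega⟩⟩ (X.gP 0 (V t)) = V t ⟨0, by omega⟩ := fun t => by
      refine X.coef_wG_mem le_rfl ?_ (fun p hp => ?_) _ (hs1 0 (by omega) _ h00).le
        (p := (D4.cert.sr 0, V t ⟨0, by omega⟩)) (List.mem_map.2 ⟨_, h00, rfl⟩) rfl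
      · rw [List.map_map]
        refine (X.orbF_nodup (by omega)).map fun i j h => ?_
        by_contra hne
        exact X.S.simple_ne X.hN i j hne h
      · obtain ⟨j, hj, rfl⟩ := List.mem_map.1 hp
        exact ⟨hlt j, (hs1 0 (by omega) j hj).ge⟩
    have := hc t
    rw [e1, hc t'] at this
    simpa [V] using this.symm
  have hcne : Nat.card ↥(rad P U (w 0 (by omega))) ≠ Nat.card ↥(rad P U (w 1 (by omega))) := by
    intro h
    have e1 := key 0 (by omega)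
    have e2 := key 1 (by omega)
    rw [← h, e1] at e2
    have := Nat.eq_of_mul_eq_mul_left Nat.card_pos e2
    omega
  have hne : w 0 (by omega) ≠ w 1 (by omega) := fun h => hcne (by rw [h])
  have hk : (MonoidHom.id ↥X.G1).ker ≤ P.B := by rw [MonoidHom.ker_id]; exact bot_le
  refine goal_of_cover hS (f := MonoidHom.id ↥X.G1) Function.surjective_id hk e (fun _ => ?_)
    (Kind.two _ _ (hw 0 (by omega)) (hw 1 (by omega)) hne fun _ hsw => absurd hsw ?_)
  · rw [MonoidHom.ker_id]; exact radical_twisted X D4.descJ d4_disj P h1 h3 d4_full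
  · exact not_swaps_of_card hS (push_surjective Function.surjective_id e) ((push_ker e).le.trans hk)
      (hw 0 (by omega)) (hw 1 (by omega)) hcne

end Cfsg.Lib.PMinLie
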