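import Cfsg.Agent.PMinLie.SmallBase
import Cfsg.Agent.Spectra.SUThreeThree
import Cfsg.Agent.S0280
import Cfsg.Agent.Known.PSUThree.Main

/-!
# `U₃(3)` is not `2`-minimal
-/

set_option autoImplicit false

namespace Cfsg.Lib.PMinLie.UThree

open Matrix Cfsg.Agent.Spectra

universe u v

/-- A square root of minus one. -/
def ni : Nine := ⟨0, 1⟩

/-- The central involution. -/
def mz : Matrix (Fin 3) (Fin 3) Nine := !![1, 0, 0; 0, -1, 0; 0, 0, -1]
/-- A commuting involution. -/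
def me : Matrix (Fin 3) (Fin 3) Nine := !![-1, 0, 0; 0, 1, 0; 0, 0, -1]
/-- The product of the two. -/
def mf : Matrix (Fin 3) (Fin 3) Nine := !![-1, 0, 0; 0, -1, 0; 0, 0, 1]
/-- A square root of the first. -/
def ma : Matrix (Fin 3) (Fin 3) Nine := !![1, 0, 0; 0, ni, 0; 0, 0, -ni]
/-- A square root of the third. -/
def mb : Matrix (Fin 3) (Fin 3) Nine := !![ni, 0, 0; 0, -ni, 0; 0, 0, 1]
/-- A square root of the second. -/
def mc : Matrix (Fin 3) (Fin 3) Nine := !![ni, 0, 0; 0, 1, 0; 0, 0, -ni]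
/-- The exchange of two axes. -/
def mw : Matrix (Fin 3) (Fin 3) Nine := !![-1, 0, 0; 0, 0, 1; 0, 1, 0]
/-- An element of the centraliser of the first involution. -/
def mt : Matrix (Fin 3) (Fin 3) Nine := !![1, 0, 0; 0, ⟨1, 1⟩, ⟨1, 1⟩; 0, ⟨2, 1⟩, ⟨1, 2⟩]
/-- The monomial elements centralising the first involution. -/
def mono (x : Fin 4 × Fin 4 × Fin 2) : Matrix (Fin 3) (Fin 3) Nine := ma ^ x.1.val * mb ^ x.2.1.val * mw ^ x.2.2.val

theorem units : UnitOne mz ∧ UnitOne me ∧ UnitOne mf ∧ UnitOne ma ∧ UnitOne mb ∧ UnitOne mc ∧ UnitOne mw ∧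
    UnitOne mt ∧ UnitOne uPerm := by
  unfold UnitOne
  decide +kernel

theorem mono_unit : ∀ x, UnitOne (mono x) := by
  unfold UnitOne
  decide +kernel

theorem mono_inj : Function.Injective mono := by decide +kernel

theorem mono_norm : ∀ x, mono x * mz = mz * mono x ∧ (mono x * me = me * mono x ∨ mono x * me = mf * mono x) ∧
    (mono x * mf = me * mono x ∨ mono x * mf = mf * mono x) := by decide +kernel

theorem facts : ma * ma = mz ∧ mc * mc = me ∧ mb * mb = mf ∧ mz * mz = 1 ∧ mz ≠ 1 ∧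
    ma * mz = mz * ma ∧ mc * mz = mz * mc ∧ mb * mz = mz * mb ∧ ma * me = me * ma ∧ ma * mf = mf * ma ∧
    mc * me = me * mc ∧ mc * mf = mf * mc ∧ mb * me = me * mb ∧ mb * mf = mf * mb ∧
    mw * mz = mz * mw ∧ mw * me = mf * mw ∧ mw * mf = me * mw ∧ mz * me = mf ∧
    mt * mz = mz * mt ∧ mt * me ≠ mz * mt ∧ mt * me ≠ me * mt ∧ mt * me ≠ mf * mt ∧
    uPerm * mz = me * uPerm ∧ uPerm * me = mf * uPerm ∧ uPerm * mf = mz * uPerm ∧ me ≠ mz ∧
    me ≠ 1 ∧ mf ≠ 1 ∧ me * me = 1 ∧ mf * mf = 1 := by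
  repeat' constructor
  all_goals decide +kernel

variable {F : Type u} [Field F] [Fintype F]

/-- The underlying matrix. -/
abbrev mat (g : ↥(Cfsg.SU 3 F 3)) : Matrix (Fin 3) (Fin 3) F := ((g : Matrix.SpecialLinearGroup (Fin 3) F) : Matrix (Fin 3) (Fin 3) F)

theorem mat_inj : Function.Injective (mat : ↥(Cfsg.SU 3 F 3) → Matrix (Fin 3) (Fin 3) F) :=
  fun _ _ h => Subtype.ext (Subtype.ext h)

theorem mat_mul (g h : ↥(Cfsg.SU 3 F 3)) : mat (g * h) = mat g * mat h := rfl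

theorem mat_one : mat (1 : ↥(Cfsg.SU 3 F 3)) = 1 := rfl

variable [CharP F 3]

theorem preserves {M : Matrix (Fin 3) (Fin 3) Nine} (h : UnitOne M) (φ : Nine →+* F) :
    UnitOne (M.map φ) := by
  refine ⟨?_, by rw [← φ.mapMatrix_apply, ← RingHom.map_det, h.2, map_one]⟩
  have := congrArg (fun A => A.map φ) h.1
  simp only [Matrix.map_mul, Matrix.map_one φ φ.map_zero φ.map_one, Matrix.transpose_map] at this
  rw [Matrix.map_map] at this ⊢
  convert this using 3
  funext a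
  simp

/-- A matrix over the concrete field as an element. -/
def lift (φ : Nine →+* F) (M : Matrix (Fin 3) (Fin 3) Nine) (h : UnitOne M) : ↥(Cfsg.SU 3 F 3) :=
  ⟨⟨M.map φ, (preserves h φ).2⟩, (mem_SU_iff _).2 (preserves h φ).1⟩

variable (φ : Nine →+* F)

theorem mat_lift (M : Matrix (Fin 3) (Fin 3) Nine) (h : UnitOne M) : mat (lift φ M h) = φ.mapMatrix M := rfl

theorem lift_mul_eq {M N M' N' : Matrix (Fin 3) (Fin 3) Nine} {hM : UnitOne M} {hN : UnitOne N}
    {hM' : UnitOne M'} {hN' : UnitOne N'} (e : M * N = M' * N') :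
    lift φ M hM * lift φ N hN = lift φ M' hM' * lift φ N' hN' :=
  mat_inj (by simp only [mat_mul, mat_lift, ← map_mul, e])

theorem lift_mul_eq' {M N R : Matrix (Fin 3) (Fin 3) Nine} {hM : UnitOne M} {hN : UnitOne N} {hR : UnitOne R}
    (e : M * N = R) : lift φ M hM * lift φ N hN = lift φ R hR :=
  mat_inj (by simp only [mat_mul, mat_lift, ← map_mul, e])

theorem lift_inj (hφ : Function.Injective φ) {M N : Matrix (Fin 3) (Fin 3) Nine} {hM : UnitOne M} {hN : UnitOne N}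
    (e : lift φ M hM = lift φ N hN) : M = N :=
  Matrix.map_injective hφ (congrArg mat e)

/-- The first involution. -/
def gz : ↥(Cfsg.SU 3 F 3) := lift φ mz units.1
/-- The second involution. -/
def ge : ↥(Cfsg.SU 3 F 3) := lift φ me units.2.1
/-- The third involution. -/
def gf : ↥(Cfsg.SU 3 F 3) := lift φ mf units.2.2.1

/-- The three diagonal involutions. -/
def three : Set ↥(Cfsg.SU 3 F 3) := {gz φ, ge φ, gf φ}

/-- The centraliser of an involution. -/
def L1 : Subgroup ↥(Cfsg.SU 3 F 3) := Subgroup.centralizer {gz φ}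

/-- The normaliser of the frame. -/
def L2 : Subgroup ↥(Cfsg.SU 3 F 3) := Subgroup.normalizer (three φ)

/-- A Sylow `2`-subgroup. -/
def U0 : Subgroup ↥(Cfsg.SU 3 F 3) := L1 φ ⊓ L2 φ

theorem mem_L1 {g : ↥(Cfsg.SU 3 F 3)} : g ∈ L1 φ ↔ g * gz φ = gz φ * g := Subgroup.mem_centralizer_singleton_iff

theorem mem_L2 {g : ↥(Cfsg.SU 3 F 3)} (h : ∀ x ∈ three φ, ∃ y ∈ three φ, g * x = y * g) : g ∈ L2 φ :=
  Subgroup.mem_normalizer_fintype fun x hx => by
    obtain ⟨y, hy, e⟩ := h x hx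
    rwa [e, mul_inv_cancel_right]

theorem L2_conj {g : ↥(Cfsg.SU 3 F 3)} (hg : g ∈ L2 φ) {x : ↥(Cfsg.SU 3 F 3)} (hx : x ∈ three φ) :
    g * x * g⁻¹ ∈ three φ := by
  have h : g ∈ Subgroup.normalizer (three φ) := hg
  exact (Subgroup.mem_set_normalizer_iff.1 h x).1 hx

theorem mem_three {x : ↥(Cfsg.SU 3 F 3)} : x ∈ three φ ↔ x = gz φ ∨ x = ge φ ∨ x = gf φ := by simp [three]

theorem mono_mem (x : Fin 4 × Fin 4 × Fin 2) : lift φ (mono x) (mono_unit x) ∈ U0 φ := by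
  obtain ⟨h1, h2, h3⟩ := mono_norm x
  refine Subgroup.mem_inf.2 ⟨(mem_L1 φ).2 (lift_mul_eq φ h1), mem_L2 φ fun y hy => ?_⟩
  rcases (mem_three φ).1 hy with rfl | rfl | rfl
  · exact ⟨gz φ, (mem_three φ).2 (Or.inl rfl), lift_mul_eq φ h1⟩
  · rcases h2 with e | e
    · exact ⟨ge φ, (mem_three φ).2 (Or.inr (Or.inl rfl)), lift_mul_eq φ e⟩
    · exact ⟨gf φ, (mem_three φ).2 (Or.inr (Or.inr rfl)), lift_mul_eq φ e⟩
  · rcases h3 with e | e
    · exact ⟨ge φ, (mem_three φ).2 (Or.inr (Or.inl rfl)), lift_mul_eq φ e⟩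
    · exact ⟨gf φ, (mem_three φ).2 (Or.inr (Or.inr rfl)), lift_mul_eq φ e⟩

theorem map_root : φ ni * φ ni = -1 := by
  rw [← map_mul, show ni * ni = -1 by decide +kernel, map_neg, map_one]

theorem two_ne : (2 : F) ≠ 0 := fun h => by
  have h3 : (3 : F) = 0 := by exact_mod_cast CharP.cast_eq_zero F 3
  exact one_ne_zero (α := F) (by linear_combination h3 - h)

theorem ni_ne : φ ni ≠ 1 ∧ φ ni ≠ -1 ∧ φ ni ≠ 0 := by
  have h := map_root φ
  refine ⟨fun e => ?_, fun e => ?_, fun e => ?_⟩ <;> rw [e] at h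
  · exact two_ne (by linear_combination h)
  · exact two_ne (by linear_combination h)
  · simp at h

theorem diag_of_comm {g : ↥(Cfsg.SU 3 F 3)} (hz : g * gz φ = gz φ * g) (he : g * ge φ = ge φ * g) :
    mat g = Matrix.diagonal fun i => mat g i i := by
  have e1 := congrArg mat hz
  have e2 := congrArg mat he
  rw [mat_mul, mat_mul] at e1 e2
  have q : ∀ a : F, a = -a → a = 0 := fun a ha =>
    (mul_eq_zero.1 (show (2 : F) * a = 0 by linear_combination ha)).resolve_left two_ne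
  ext i j
  by_cases hij : i = j
  · subst hij; simp
  rw [Matrix.diagonal_apply_ne _ hij]
  have a1 := congrFun (congrFun e1 i) j
  have a2 := congrFun (congrFun e2 i) j
  simp only [gz, ge, mat_lift, mz, me, RingHom.mapMatrix_apply, Matrix.mul_apply, Fin.sum_univ_three] at a1 a2
  fin_cases i <;> fin_cases j <;> simp at hij a1 a2 <;>
    first
      | exact absurd rfl hij
      | exact q _ a1
      | exact q _ a1.symm
      | exact q _ a2
      | exact q _ a2.symm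

theorem diag_facts {g : ↥(Cfsg.SU 3 F 3)} (h : mat g = Matrix.diagonal fun i => mat g i i) :
    (∀ i, mat g i i ^ 4 = 1) ∧ mat g 0 0 * mat g 1 1 * mat g 2 2 = 1 := by
  have h1 := (mem_SU_iff (g : Matrix.SpecialLinearGroup (Fin 3) F)).1 g.2
  have h2 : (mat g).det = 1 := (g : Matrix.SpecialLinearGroup (Fin 3) F).2
  change (mat g).transpose * (mat g).map _ = 1 at h1
  rw [h] at h1 h2
  refine ⟨fun i => ?_, by rw [Matrix.det_diagonal, Fin.prod_univ_three] at h2; exact h2⟩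
  have h3 := congrFun (congrFun h1 i) i
  rw [Matrix.diagonal_transpose, Matrix.mul_apply, Finset.sum_eq_single i (fun b _ hb => by
    simp [Matrix.diagonal_apply_ne _ hb.symm]) (by simp)] at h3
  simpa [Matrix.one_apply_eq, pow_succ, mul_assoc] using h3

theorem sq_comm {g : ↥(Cfsg.SU 3 F 3)} (hg : g ∈ U0 φ) : g * g * ge φ = ge φ * (g * g) ∧ g * g * gz φ = gz φ * (g * g) := by
  obtain ⟨h1, h2⟩ := Subgroup.mem_inf.1 hg
  rw [mem_L1] at h1
  have hzf : gz φ * ge φ = gf φ := lift_mul_eq' φ facts.2.2.2.2.2.2.2.2.2.2.2.2.2.2.2.2.2.1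
  have hzz : gz φ * gz φ = 1 := mat_inj (by
    simp only [mat_mul, gz, mat_lift, ← map_mul, facts.2.2.2.1, map_one, mat_one])
  refine ⟨?_, by rw [mul_assoc, h1, ← mul_assoc, h1, mul_assoc]⟩
  rcases (mem_three φ).1 (L2_conj φ h2 (x := ge φ) ((mem_three φ).2 (Or.inr (Or.inl rfl))))
    with e | e | e <;> rw [mul_inv_eq_iff_eq_mul] at e
  · have : ge φ = gz φ := mul_left_cancel (a := g) (e.trans h1.symm)
    rw [this, mul_assoc, h1, ← mul_assoc, h1, mul_assoc]
  · rw [mul_assoc, e, ← mul_assoc, e, mul_assoc]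
  · have e' : g * gf φ = ge φ * g := by
      rw [← hzf, ← mul_assoc, h1, mul_assoc, e, ← mul_assoc, ← hzf, ← mul_assoc, hzz, one_mul]
    rw [mul_assoc, e, ← mul_assoc, e', mul_assoc]

theorem pow_eight {g : ↥(Cfsg.SU 3 F 3)} (hg : g ∈ U0 φ) : g ^ 8 = 1 := by
  obtain ⟨he, hz⟩ := sq_comm φ hg
  have hd := diag_of_comm φ hz he
  have h4 := (diag_facts hd).1
  apply mat_inj
  rw [show g ^ 8 = g * g * (g * g) * (g * g * (g * g)) by
      simp only [pow_succ, pow_zero, one_mul, mul_assoc],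
    mat_mul, mat_mul (g * g) (g * g), hd, Matrix.diagonal_mul_diagonal, Matrix.diagonal_mul_diagonal, mat_one,
    ← Matrix.diagonal_one]
  congr 1
  funext i
  linear_combination h4 i

theorem card_G (hF : Fintype.card F = 9) : Nat.card ↥(Cfsg.SU 3 F 3) = 6048 ∧ Subgroup.center ↥(Cfsg.SU 3 F 3) = ⊥ := by
  have hF' : Fintype.card F = 3 ^ 2 := by rw [hF]; norm_num
  have hc : Subgroup.center ↥(Cfsg.SU 3 F 3) = ⊥ := Subgroup.card_eq_one.1 (by
    rw [Cfsg.Lib.Classical.card_center_SU hF' (by norm_num : 2 ≤ 3)]; rfl)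
  refine ⟨?_, hc⟩
  have h := Cfsg.Agent.S0280.result hF' 3 (by norm_num)
  have h2 := Subgroup.card_eq_card_quotient_mul_card_subgroup (Subgroup.center ↥(Cfsg.SU 3 F 3))
  rw [show Nat.card ↥(Subgroup.center ↥(Cfsg.SU 3 F 3)) = 1 by rw [hc, Subgroup.card_bot], mul_one] at h2
  norm_num [Finset.prod_range_succ] at h
  change 4 * Nat.card (↥(Cfsg.SU 3 F 3) ⧸ Subgroup.center ↥(Cfsg.SU 3 F 3)) = 24192 at h
  omega

theorem fact_six : (6048 : ℕ).factorization 2 = 5 := by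
  rw [show (6048 : ℕ) = 2 ^ 5 * 189 by norm_num, Nat.factorization_mul (by norm_num) (by norm_num),
    Finsupp.add_apply, Nat.prime_two.factorization_pow, Finsupp.single_eq_same,
    Nat.factorization_eq_zero_of_not_dvd (by norm_num : ¬ 2 ∣ 189)]

theorem card_U0 (hφ : Function.Injective φ) (hF : Fintype.card F = 9) : Nat.card ↥(U0 φ) = 32 := by
  have : Fact (Nat.Prime 2) := ⟨Nat.prime_two⟩
  have hp : IsPGroup 2 ↥(U0 φ) := fun g => ⟨3, Subtype.ext (by simpa using pow_eight φ g.2)⟩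
  obtain ⟨k, hk⟩ := IsPGroup.iff_card.1 hp
  have hle : k ≤ 5 := by
    have h := Subgroup.card_subgroup_dvd_card (U0 φ)
    rw [hk, (card_G hF).1, Nat.prime_two.pow_dvd_iff_le_factorization (by norm_num), fact_six] at h
    exact h
  have hge : 32 ≤ Nat.card ↥(U0 φ) := by
    calc 32 = Nat.card (Fin 4 × Fin 4 × Fin 2) := by simp
      _ ≤ _ := Nat.card_le_card_of_injective (fun x => (⟨_, mono_mem φ x⟩ : ↥(U0 φ)))
          fun x y e => mono_inj (lift_inj φ hφ (hM := mono_unit x) (hN := mono_unit y) (congrArg Subtype.val e))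
  rw [hk] at hge ⊢
  have : 5 ≤ k := (Nat.pow_le_pow_iff_right (by norm_num : 1 < 2)).1 (by simpa using hge)
  rw [le_antisymm hle this]
  norm_num

theorem central_invol {x : ↥(Cfsg.SU 3 F 3)} (hx : x ∈ U0 φ) (h1 : x ≠ 1) (h2 : x * x = 1)
    (hc : ∀ y ∈ U0 φ, y * x = x * y) : x = gz φ := by
  have hz : x * gz φ = gz φ * x := (mem_L1 φ).1 (Subgroup.mem_inf.1 hx).1
  have hma : lift φ ma units.2.2.2.1 ∈ U0 φ := by
    have := mono_mem φ (1, 0, 0)
    convert this using 2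
    simp [mono]
  have hmb : lift φ mb units.2.2.2.2.1 ∈ U0 φ := by
    have := mono_mem φ (0, 1, 0)
    convert this using 2
    simp [mono]
  have hmw : lift φ mw units.2.2.2.2.2.2.1 ∈ U0 φ := by
    have := mono_mem φ (0, 0, 1)
    convert this using 2
    simp [mono]
  have he : x * ge φ = ge φ * x := by
    have ea : lift φ ma units.2.2.2.1 * lift φ ma units.2.2.2.1 = gz φ := lift_mul_eq' φ facts.1
    have eb : lift φ mb units.2.2.2.2.1 * lift φ mb units.2.2.2.2.1 = gf φ := lift_mul_eq' φ facts.2.2.1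
    have hzz : gz φ * gz φ = 1 := mat_inj (by
      simp only [mat_mul, gz, mat_lift, ← map_mul, facts.2.2.2.1, map_one, mat_one])
    have hzf : gz φ * ge φ = gf φ := lift_mul_eq' φ facts.2.2.2.2.2.2.2.2.2.2.2.2.2.2.2.2.2.1
    have hf : x * gf φ = gf φ * x := by
      rw [← eb, ← mul_assoc, ← hc _ hmb, mul_assoc, ← hc _ hmb, ← mul_assoc]
    have e : ge φ = gz φ * gf φ := by rw [← hzf, ← mul_assoc, hzz, one_mul]
    rw [e, ← mul_assoc, hz, mul_assoc, hf, ← mul_assoc]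
  have hd := diag_of_comm φ hz he
  obtain ⟨-, hdet⟩ := diag_facts hd
  have hw : mat x 1 1 = mat x 2 2 := by
    have e := congrArg mat (hc _ hmw)
    rw [mat_mul, mat_mul, mat_lift, hd] at e
    have := congrFun (congrFun e 1) 2
    simpa [Matrix.mul_diagonal, Matrix.diagonal_mul, mw] using this.symm
  have hs : ∀ i, mat x i i * mat x i i = 1 := fun i => by
    have e := congrArg mat h2
    rw [mat_mul, hd, Matrix.diagonal_mul_diagonal, mat_one] at e
    simpa using congrFun (congrFun e i) i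
  have ha : mat x 0 0 = 1 := by
    linear_combination hdet - mat x 0 0 * (hs 2) - mat x 0 0 * mat x 2 2 * hw
  have hb : mat x 1 1 = -1 := by
    rcases mul_self_eq_one_iff.1 (hs 1) with e | e
    · refine absurd (mat_inj ?_) h1
      rw [hd, mat_one, ← Matrix.diagonal_one]
      congr 1
      funext i
      fin_cases i
      exacts [ha, e, hw.symm.trans e]
    · exact e
  apply mat_inj
  rw [hd, gz, mat_lift]
  ext i j
  fin_cases i <;> fin_cases j <;> simp [mz, ha, hb, ← hw]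

theorem square_invol {g : ↥(Cfsg.SU 3 F 3)} (hg : g ∈ U0 φ) (h1 : g * g ≠ 1) (h2 : g * g * (g * g) = 1) :
    g * g ∈ three φ := by
  obtain ⟨he, hz⟩ := sq_comm φ hg
  have hd := diag_of_comm φ hz he
  obtain ⟨-, hdet⟩ := diag_facts hd
  have hs : ∀ i, mat (g * g) i i = 1 ∨ mat (g * g) i i = -1 := fun i => by
    have e := congrArg mat h2
    rw [mat_mul (g * g), hd, Matrix.diagonal_mul_diagonal, mat_one] at e
    exact mul_self_eq_one_iff.1 (by simpa using congrFun (congrFun e i) i)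
  have hne : (-1 : F) ≠ 1 := fun e => two_ne (by linear_combination -e)
  rw [mem_three]
  rcases hs 0 with a | a <;> rcases hs 1 with b | b <;> rcases hs 2 with c | c <;>
    simp [a, b, c, hne] at hdet
  · exact absurd (mat_inj (by
      rw [hd, mat_one, ← Matrix.diagonal_one]; congr 1; funext i; fin_cases i; exacts [a, b, c])) h1
  · left; apply mat_inj; rw [hd, gz, mat_lift]
    ext i j; fin_cases i <;> fin_cases j <;> simp [mz, a, b, c]
  · right; left; apply mat_inj; rw [hd, ge, mat_lift]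
    ext i j; fin_cases i <;> fin_cases j <;> simp [me, a, b, c]
  · right; right; apply mat_inj; rw [hd, gf, mat_lift]
    ext i j; fin_cases i <;> fin_cases j <;> simp [mf, a, b, c]

theorem three_squares (hφ : Function.Injective φ) {x : ↥(Cfsg.SU 3 F 3)} (hx : x ∈ three φ) :
    ∃ g ∈ U0 φ, g * g = x ∧ x ≠ 1 ∧ x * x = 1 := by
  have ne1 : ∀ {M : Matrix (Fin 3) (Fin 3) Nine} (hM : UnitOne M), M ≠ 1 → lift φ M hM ≠ 1 := fun hM h e =>
    h (Matrix.map_injective hφ ((congrArg mat e).trans (by simp [mat_one])))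
  have sq1 : ∀ {M : Matrix (Fin 3) (Fin 3) Nine} (hM : UnitOne M), M * M = 1 → lift φ M hM * lift φ M hM = 1 :=
    fun hM h => mat_inj (by simp only [mat_mul, mat_lift, ← map_mul, h, map_one, mat_one])
  obtain ⟨e1, e2, e3, z2, zn, az, cz, bz, ae, af, ce, cf, be, bf, -, -, -, -, -, -, -, -, -, -, -, -, en, fn,
    e22, f22⟩ := facts
  have key : ∀ {M : Matrix (Fin 3) (Fin 3) Nine} (hM : UnitOne M), M * mz = mz * M → M * me = me * M →
      M * mf = mf * M → lift φ M hM ∈ U0 φ := fun hM a b c =>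
    Subgroup.mem_inf.2 ⟨(mem_L1 φ).2 (lift_mul_eq φ a), mem_L2 φ fun y hy => by
      rcases (mem_three φ).1 hy with rfl | rfl | rfl
      exacts [⟨gz φ, hy, lift_mul_eq φ a⟩, ⟨ge φ, hy, lift_mul_eq φ b⟩, ⟨gf φ, hy, lift_mul_eq φ c⟩]⟩
  rcases (mem_three φ).1 hx with rfl | rfl | rfl
  · exact ⟨_, key units.2.2.2.1 az ae af, lift_mul_eq' φ e1, ne1 _ zn, sq1 _ z2⟩
  · exact ⟨_, key units.2.2.2.2.2.1 cz ce cf, lift_mul_eq' φ e2, ne1 _ en, sq1 _ e22⟩
  · exact ⟨_, key units.2.2.2.2.1 bz be bf, lift_mul_eq' φ e3, ne1 _ fn, sq1 _ f22⟩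

theorem invariant (hφ : Function.Injective φ) (β : ↥(Cfsg.SU 3 F 3) ≃* ↥(Cfsg.SU 3 F 3)) (hβ : (U0 φ).map β.toMonoidHom = U0 φ) :
    (L1 φ).map β.toMonoidHom = L1 φ ∧ (L2 φ).map β.toMonoidHom = L2 φ := by
  have hm : ∀ x, β x ∈ U0 φ ↔ x ∈ U0 φ := fun x => by
    conv_lhs => rw [← hβ]
    exact ⟨fun ⟨y, hy, e⟩ => β.injective e ▸ hy, fun h => ⟨x, h, rfl⟩⟩
  obtain ⟨gz_mem, gz_ne, gz_sq⟩ : gz φ ∈ U0 φ ∧ gz φ ≠ 1 ∧ gz φ * gz φ = 1 := by
    obtain ⟨g, hg, e, h1, h2⟩ := three_squares φ hφ ((mem_three φ).2 (Or.inl rfl))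
    exact ⟨e ▸ mul_mem hg hg, h1, h2⟩
  have hz : β (gz φ) = gz φ := by
    refine central_invol φ ((hm _).2 gz_mem) (fun e => gz_ne (β.injective (e.trans (map_one β).symm)))
      (by rw [← map_mul, gz_sq, map_one]) fun y hy => ?_
    obtain ⟨y, rfl⟩ := β.surjective y
    rw [← map_mul, ← map_mul, (mem_L1 φ).1 (Subgroup.mem_inf.1 ((hm y).1 hy)).1]
  have h3 : ∀ x, x ∈ three φ → β x ∈ three φ := fun x hx => by
    obtain ⟨g, hg, rfl, h1, h2⟩ := three_squares φ hφ hx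
    rw [map_mul]
    exact square_invol φ ((hm g).2 hg) (fun e => h1 (β.injective (by rw [map_mul, e, map_one])))
      (by rw [← map_mul, ← map_mul, h2, map_one])
  constructor
  · refine Subgroup.eq_of_le_of_card_ge ?_ (le_of_eq (Subgroup.card_map_of_injective β.injective).symm)
    rintro _ ⟨x, hx, rfl⟩
    rw [mem_L1, ← hz]
    show β x * β (gz φ) = β (gz φ) * β x
    rw [← map_mul, ← map_mul, (mem_L1 φ).1 hx]
  · refine Subgroup.eq_of_le_of_card_ge ?_ (le_of_eq (Subgroup.card_map_of_injective β.injective).symm)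
    rintro _ ⟨x, hx, rfl⟩
    refine mem_L2 φ fun y hy => ?_
    have hb : β '' three φ = three φ :=
      Set.eq_of_subset_of_ncard_le (Set.image_subset_iff.2 h3)
        (le_of_eq (Set.ncard_image_of_injective _ β.injective).symm) (Set.toFinite _)
    obtain ⟨y', hy', rfl⟩ := hb.ge hy
    exact ⟨β (x * y' * x⁻¹), h3 _ (L2_conj φ hx hy'), by
      show β x * β y' = _ * β x
      rw [← map_mul, ← map_mul, inv_mul_cancel_right]⟩

theorem join (hφ : Function.Injective φ) (hF : Fintype.card F = 9)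
    (hmin : ∀ H : Subgroup ↥(Cfsg.SU 3 F 3), H ≠ ⊤ → 28 ≤ H.index) : L1 φ ≠ ⊤ ∧ L2 φ ≠ ⊤ ∧ L1 φ ⊔ L2 φ = ⊤ := by
  obtain ⟨e1, e2, e3, z2, zn, az, cz, bz, ae, af, ce, cf, be, bf, -, -, -, -, tz, t1, t2, t3, pz, pe, pf, ez, -, -,
    -, -⟩ := facts
  set t : ↥(Cfsg.SU 3 F 3) := lift φ mt units.2.2.2.2.2.2.2.1
  set P : ↥(Cfsg.SU 3 F 3) := lift φ uPerm units.2.2.2.2.2.2.2.2
  have ht1 : t ∈ L1 φ := (mem_L1 φ).2 (lift_mul_eq φ tz)
  have ht2 : t ∉ L2 φ := fun h => by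
    rcases (mem_three φ).1 (L2_conj φ h (x := ge φ) ((mem_three φ).2 (Or.inr (Or.inl rfl))))
      with e | e | e <;> rw [mul_inv_eq_iff_eq_mul] at e <;>
      replace e := congrArg mat e <;>
      simp only [t, gz, ge, gf, mat_mul, mat_lift, ← map_mul] at e <;>
      replace e := Matrix.map_injective hφ e
    exacts [t1 e, t2 e, t3 e]
  have hP2 : P ∈ L2 φ := mem_L2 φ fun y hy => by
    rcases (mem_three φ).1 hy with rfl | rfl | rfl
    exacts [⟨ge φ, (mem_three φ).2 (Or.inr (Or.inl rfl)), lift_mul_eq φ pz⟩,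
      ⟨gf φ, (mem_three φ).2 (Or.inr (Or.inr rfl)), lift_mul_eq φ pe⟩,
      ⟨gz φ, (mem_three φ).2 (Or.inl rfl), lift_mul_eq φ pf⟩]
  have hP1 : P ∉ L1 φ := fun h => by
    have e : gz φ * P = ge φ * P := ((mem_L1 φ).1 h).symm.trans (lift_mul_eq φ pz)
    exact ez (lift_inj φ hφ (mul_right_cancel e)).symm
  refine ⟨fun e => hP1 (e ▸ Subgroup.mem_top _), fun e => ht2 (e ▸ Subgroup.mem_top _), ?_⟩
  by_contra hne
  set M := L1 φ ⊔ L2 φ
  have h1 := hmin M hne
  have h2 := M.card_mul_index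
  rw [(card_G hF).1] at h2
  have d0 : 32 ∣ Nat.card (L1 φ) := card_U0 φ hφ hF ▸ Subgroup.card_dvd_of_le inf_le_left
  obtain ⟨k, hk⟩ := d0
  have d1 : Nat.card (L1 φ) ∣ Nat.card M := Subgroup.card_dvd_of_le le_sup_left
  obtain ⟨m, hm⟩ := d1
  have hk1 : k ≠ 1 := fun e => ht2 ((Subgroup.eq_of_le_of_card_ge (inf_le_left : U0 φ ≤ L1 φ)
    (by rw [hk, e, mul_one]; exact (card_U0 φ hφ hF).ge)).ge ht1).2
  have hm1 : m ≠ 1 := fun e => hP1 ((Subgroup.eq_of_le_of_card_ge (le_sup_left : L1 φ ≤ M)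
    (by rw [hm, e, mul_one])).ge (Subgroup.mem_sup_right hP2))
  rw [hm, hk] at h2
  have hodd : k * m * M.index = 189 := by
    have : 32 * (k * m * M.index) = 32 * 189 := by
      calc 32 * (k * m * M.index) = 32 * k * m * M.index := by ring
        _ = _ := h2
    omega
  have o1 : Odd k := (Nat.odd_mul.1 (Nat.odd_mul.1 (hodd ▸ (by decide : Odd 189))).1).1
  have o2 : Odd m := (Nat.odd_mul.1 (Nat.odd_mul.1 (hodd ▸ (by decide : Odd 189))).1).2
  obtain ⟨a, rfl⟩ := o1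
  obtain ⟨b, rfl⟩ := o2
  have : 9 * 28 ≤ (2 * a + 1) * (2 * b + 1) * M.index :=
    Nat.mul_le_mul (Nat.mul_le_mul (show 3 ≤ 2 * a + 1 by omega) (show 3 ≤ 2 * b + 1 by omega)) h1
  omega

omit φ in
theorem goal [IsSimpleGroup (Cfsg.PSU 3 F 3)] (hF : Fintype.card F = 9) {K : Type v} [Group K] [Finite K]
    [IsSimpleGroup K] (e : K ≃* Cfsg.PSU 3 F 3) : Goal 2 K := by
  have : Fact (Nat.Prime 2) := ⟨Nat.prime_two⟩
  have hF' : Fintype.card F = 3 ^ 2 := by rw [hF]; norm_num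
  obtain ⟨ψ, hψ⟩ := exists_nine_hom hF
  obtain ⟨hcard, hc⟩ := card_G hF
  set π : ↥(Cfsg.SU 3 F 3) ≃* Cfsg.PSU 3 F 3 := (QuotientGroup.quotientBot.symm).trans (QuotientGroup.quotientMulEquivOfEq hc.symm)
  have hmin : ∀ H : Subgroup ↥(Cfsg.SU 3 F 3), H ≠ ⊤ → 28 ≤ H.index := fun H hH => by
    have h := (Cfsg.Lib.Known.PSUThree.min_index_PSU (F := F) (q := 3) hF' le_rfl (by norm_num)).1
      (H.map π.toMonoidHom) fun e => hH (Subgroup.map_injective (f := π.toMonoidHom) π.injective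
        (e.trans (Subgroup.map_top_of_surjective _ π.surjective).symm))
    rw [Subgroup.index_map_of_bijective (f := π.toMonoidHom) π.bijective] at h
    simpa using h
  have hK : Nat.card K = 6048 := by rw [Nat.card_congr (e.trans π.symm).toEquiv, hcard]
  refine ⟨fun U => normalizer_ne_top_of_simple (by rw [hK]; norm_num) Nat.prime_three (by norm_num)
    (by rw [hK]; norm_num) U, fun UK A Lmax c => ?_⟩
  exfalso
  obtain ⟨χ, hχ⟩ := exists_sylow_equiv (p := 2) (e.trans π.symm) UK (V := U0 ψ)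
    (by rw [card_U0 ψ hψ.1 hF, hcard, fact_six]; norm_num)
  obtain ⟨n1, n2, hj⟩ := join ψ hψ.1 hF hmin
  have htop : ∀ {s : Subgroup ↥(Cfsg.SU 3 F 3)}, s ≠ ⊤ → s.comap χ.toMonoidHom ≠ ⊤ := fun h e =>
    h (Subgroup.comap_injective χ.surjective (e.trans (Subgroup.comap_top _).symm))
  have hU : ∀ s : Subgroup ↥(Cfsg.SU 3 F 3), U0 ψ ≤ s → (UK : Subgroup K) ≤ s.comap χ.toMonoidHom := fun s hs =>
    Subgroup.map_le_iff_le_comap.1 (hχ.le.trans hs)
  have hinv : ∀ α ∈ A, ∀ s : Subgroup ↥(Cfsg.SU 3 F 3), (∀ β : ↥(Cfsg.SU 3 F 3) ≃* ↥(Cfsg.SU 3 F 3), (U0 ψ).map β.toMonoidHom = U0 ψ →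
      s.map β.toMonoidHom = s) → (s.comap χ.toMonoidHom).map (α : K ≃* K).toMonoidHom = s.comap χ.toMonoidHom := by
    intro α hα s hs
    set β : ↥(Cfsg.SU 3 F 3) ≃* ↥(Cfsg.SU 3 F 3) := χ.symm.trans ((α : K ≃* K).trans χ)
    have hb : ∀ T : Subgroup K, (T.map χ.toMonoidHom).map β.toMonoidHom =
        (T.map (α : K ≃* K).toMonoidHom).map χ.toMonoidHom := fun T => by
      rw [Subgroup.map_map, Subgroup.map_map]
      congr 1
      ext x
      simp [β]
    have h0 := hb UK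
    rw [hχ, c.fix α hα, hχ] at h0
    refine Subgroup.map_injective (f := χ.toMonoidHom) χ.injective ?_
    rw [← hb, Subgroup.map_comap_eq_self_of_surjective χ.surjective]
    exact hs β h0
  refine false_of_join c (hU (L1 ψ) inf_le_left) (hU (L2 ψ) inf_le_right) (htop n1) (htop n2)
    (fun α hα => hinv α hα _ fun β hβ => (invariant ψ hψ.1 β hβ).1)
    (fun α hα => hinv α hα _ fun β hβ => (invariant ψ hψ.1 β hβ).2) ?_
  refine Subgroup.map_injective (f := χ.toMonoidHom) χ.injective ?_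
  rw [Subgroup.map_sup, Subgroup.map_comap_eq_self_of_surjective χ.surjective,
    Subgroup.map_comap_eq_self_of_surjective χ.surjective, hj, Subgroup.map_top_of_surjective _ χ.surjective]

end Cfsg.Lib.PMinLie.UThree
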