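import Cfsg.Agent.PMinLie.Families
import Cfsg.Agent.PMinLie.Classical
import Cfsg.Agent.PMinLie.Twisted
import Cfsg.Agent.PMinLie.GTwo
import Cfsg.Agent.PMinLie.AltSix
import Cfsg.Agent.PMinLie.UThree
import Cfsg.Agent.PMinLie.PSLEight
import Cfsg.Agent.PMinLie.Tits
import Cfsg.Agent.PMinLie.Outer
import Cfsg.Agent.Components.GenFitting
import Cfsg.Agent.Known.POver.Main
import Cfsg.Prelude.Def_EvenType

/-!
# Every simple group of Lie type reaches the conclusion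
-/

set_option autoImplicit false
set_option maxRecDepth 20000

namespace Cfsg.Lib.PMinLie

open Cfsg.Lie

universe v

theorem goal_lie {K : Type v} [Group K] [Finite K] [IsSimpleGroup K] {p : ℕ} [Fact p.Prime]
    (hK : Cfsg.IsLieTypeChar p K) : Goal p K := by
  rcases hK with h | h | h | h | h | h | h | h | ⟨rfl, h⟩ | ⟨rfl, h⟩ | ⟨rfl, h⟩
  · obtain ⟨F, _, _, _, n, hn, h2, ⟨e⟩⟩ := h
    refine goal_psl hn e (fun h => ?_) fun h hp => ?_
    · subst h; exact Or.inl ⟨F, inferInstance, inferInstance, inferInstance, h2 rfl, ⟨e⟩⟩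
    · subst h hp; exact Or.inl ⟨F, inferInstance, inferInstance, inferInstance, ⟨e⟩⟩
  · obtain ⟨F, _, _, _, m, hm, h2, ⟨e⟩⟩ := h
    refine Cfsg.Lib.PolarBN.goal_psp p hm e fun h hp => ?_
    subst h hp
    refine Or.inr (Or.inl ⟨F, inferInstance, inferInstance, inferInstance, ?_, ⟨e⟩⟩)
    obtain ⟨k, -, hk⟩ := FiniteField.card F 2
    have h3 := h2 rfl
    rw [hk] at h3 ⊢
    have : 2 ≤ (k : ℕ) := by
      by_contra hlt
      have h4 : 2 ^ (k : ℕ) ≤ 2 ^ 1 := Nat.pow_le_pow_right (by norm_num) (by omega)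
      omega
    exact le_trans (by norm_num) (Nat.pow_le_pow_right (by norm_num : 0 < 2) this)
  · obtain ⟨F, _, _, _, n, q, hF, hn, h2, ⟨e⟩⟩ := h
    refine Cfsg.Lib.PolarBN.goal_psu p hn hF e fun h => ?_
    subst h
    exact Or.inr (Or.inl ⟨F, inferInstance, inferInstance, inferInstance, q, hF, fun e' => h2 ⟨rfl, e'⟩, ⟨e⟩⟩)
  · obtain ⟨F, _, _, _, m, hm, hodd, ⟨e⟩⟩ := h
    exact Cfsg.Lib.PolarBN.goal_omega_odd p hodd hm e
  · obtain ⟨F, _, _, _, m, hm, ⟨e⟩⟩ := h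
    exact Cfsg.Lib.PolarBN.goal_omega_plus p (by omega) e
  · obtain ⟨F, _, _, _, m, a, b, hm, hab, ⟨e⟩⟩ := h
    exact Cfsg.Lib.PolarBN.goal_omega_minus p (by omega) hab e
  · obtain ⟨F, _, _, _, h⟩ := h
    rcases h with ⟨-, ⟨e⟩⟩ | ⟨⟨e⟩⟩ | ⟨⟨e⟩⟩ | ⟨⟨e⟩⟩ | ⟨⟨e⟩⟩
    exacts [goal_gTwo e, goal_chev chevF4 (by simp) e, goal_chev chevE6 (by simp) e,
      goal_chev chevE7 (by simp) e, goal_chev chevE8 (by simp) e]
  · obtain ⟨F, _, _, _, q, hq, h⟩ := h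
    rcases h with ⟨hF, ⟨e⟩⟩ | ⟨hF, ⟨e⟩⟩
    exacts [goal_twE6 hq hF e, goal_twD4 hq hF e]
  · have hI : Cfsg.Lie.IsoSuzuki K := h
    obtain ⟨F, _, _, m, hm, hF, ⟨e⟩⟩ := h
    exact goal_suz hm hF e (Or.inr (Or.inr (Or.inl ⟨rfl, hI⟩)))
  · obtain ⟨F, _, _, m, hm, hF, ⟨e⟩⟩ := h
    exact goal_2F4 hF e
  · have hI : Cfsg.Lie.IsoRee K := h
    obtain ⟨F, _, _, m, hm, hF, ⟨e⟩⟩ := h
    have := Cfsg.Lib.Chev.Ree.charP_three hF
    exact goal_ree hF e (Or.inr (Or.inr (Or.inr ⟨rfl, Or.inl hI⟩)))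

theorem goal_chev_simple {K : Type v} [Group K] [Finite K] [IsSimpleGroup K] {p : ℕ} [Fact p.Prime]
    (hK : Cfsg.IsChevSimple p K) : Goal p K := by
  rcases hK with h | ⟨rfl, h⟩ | ⟨rfl, F, _, _, hF, ⟨e⟩⟩
  · exact goal_lie h
  · rcases h with ⟨⟨e⟩⟩ | ⟨F, _, _, hF, ⟨e⟩⟩ | h
    · exact AltSix.goal e
    · have : Fact (Nat.Prime 3) := ⟨Nat.prime_three⟩
      have : CharP F 3 := charP_of_card_eq_prime_pow (f := 2) (by rw [hF]; norm_num)
      have : IsSimpleGroup (Cfsg.PSU 3 F 3) := MulEquiv.isSimpleGroup e.symm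
      exact UThree.goal hF e
    · exact goal_tits h
  · exact PSLEight.goal hF e

theorem simple_of_chev {K : Type v} [Group K] [Finite K] {p : ℕ} [Fact p.Prime]
    (hK : Cfsg.IsChevSimple p K) : IsSimpleGroup K := by
  rcases hK with h | ⟨rfl, h⟩ | ⟨rfl, F, _, _, hF, ⟨e⟩⟩
  · exact (Cfsg.Lib.Known.POver.lie_main p h).1
  · rcases h with ⟨⟨e⟩⟩ | ⟨F, _, _, hF, ⟨e⟩⟩ | h
    · have : IsSimpleGroup (alternatingGroup (Fin 6)) := alternatingGroup.isSimpleGroup (by simp)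
      exact MulEquiv.isSimpleGroup e
    · have : IsSimpleGroup (Cfsg.PSU 3 F 3) :=
        Cfsg.Agent.S0283.result (by rw [hF]; norm_num) 3 le_rfl (by omega)
      exact MulEquiv.isSimpleGroup e
    · obtain ⟨f⟩ := h
      obtain ⟨X, hX⟩ := Cfsg.Lib.Chev.ReeF.exists_rf (K := ZMod 2) (m := 0) (ZMod.card 2)
      have key : ∀ e, X.e = e → (K ≃* ↥(commutator ↥(Cfsg.Lie.twistedF4 (ZMod 2) e))) → IsSimpleGroup K := by
        intro e he
        subst he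
        intro f'
        have f'' : K ≃* ↥(commutator ↥X.G1) := f'
        exact @Cfsg.Lib.Known.POver.simple_congr K _ ↥(commutator ↥X.G1) (Subgroup.toGroup _) f''
          (TitsComm.simple_commutator X).1
      exact key 1 (by simp [Cfsg.Lib.Chev.ReeF.RF.e, hX]) f
  · have : IsSimpleGroup (Matrix.ProjectiveSpecialLinearGroup (Fin 2) F) :=
      Matrix.ProjectiveSpecialLinearGroup.rank_two_simple (by rw [Nat.card_eq_fintype_card, hF]; norm_num)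
    exact MulEquiv.isSimpleGroup e

end Cfsg.Lib.PMinLie
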